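import Cfsg.Agent.Lib.Suzuki.Ident.Frame
import Cfsg.Agent.Lib.Chev.ZassSuzuki

/-!
The frame of the kernel of a Zassenhaus group with a nonabelian 2-group as kernel.
-/

set_option autoImplicit false
set_option linter.unusedSectionVars false

namespace CfsgLib.Suzuki.Ident

open MulAction CfsgLib.Clifford CfsgLib.Chev.SuzTwo
open scoped commutatorElement

universe u v

/-- A free action with one orbit's worth of points is regular. -/
theorem regular_of_free {V : Type*} [AddCommGroup V] [Finite V] {K : Type*} [Group K]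
    (ρ : K →* AddMonoid.End V) (hfree : ∀ (l : K) (x : V), x ≠ 0 → ρ l x = x → l = 1)
    (hcard : Nat.card K + 1 = Nat.card V) (x y : V) (hx : x ≠ 0) (hy : y ≠ 0) :
    ∃! l : K, ρ l x = y := by
  classical
  have hne : ∀ l : K, ρ l x ≠ 0 := fun l e => hx (by
    have h : ρ l⁻¹ (ρ l x) = x := by
      show (ρ l⁻¹ * ρ l) x = x
      rw [← map_mul, inv_mul_cancel, map_one]
      rfl
    rw [e, map_zero] at h
    exact h.symm)
  have hinj : Function.Injective fun l : K => (⟨ρ l x, hne l⟩ : {z : V // z ≠ 0}) := by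
    intro l l' e
    have e' : ρ l x = ρ l' x := congrArg Subtype.val e
    have h : ρ (l'⁻¹ * l) x = x := by
      rw [map_mul]
      show ρ l'⁻¹ (ρ l x) = x
      rw [e']
      show (ρ l'⁻¹ * ρ l') x = x
      rw [← map_mul, inv_mul_cancel, map_one]
      rfl
    exact (inv_mul_eq_one.1 (hfree _ x hx h)).symm
  haveI : Finite K := Finite.of_injective _ hinj
  haveI := Fintype.ofFinite V
  have hbij := (Nat.bijective_iff_injective_and_card _).2 ⟨hinj, by
    rw [Nat.card_eq_fintype_card (α := {z : V // z ≠ 0}), Fintype.card_subtype_compl,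
      Fintype.card_subtype_eq, ← Nat.card_eq_fintype_card]
    omega⟩
  obtain ⟨l, hl⟩ := hbij.2 ⟨y, hy⟩
  exact ⟨l, congrArg Subtype.val hl, fun l' hl' => hbij.1 ((Subtype.ext hl').trans hl.symm)⟩

variable {G : Type u} {Ω : Type v} [Group G] [Finite G] [MulAction G Ω] [Fintype Ω]
  {a b : Ω} {H : Subgroup G} (C : Zass G Ω a b H)

local notation "𝐄" => (stabilizer G a ⊓ stabilizer G b : Subgroup G)

include C

set_option maxHeartbeats 1000000 in
/-- The kernel has a frame normalised at a given element. -/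
theorem exists_frame (hP : IsPGroup 2 H) (hna : ∃ u v : H, u * v ≠ v * u) (hcyc : IsCyclic 𝐄)
    {e₀ : H} (he₀ : e₀ * e₀ ≠ 1) :
    ∃ n, Odd n ∧ 1 < n ∧ ∃ φ : GaloisField 2 n ≃+* GaloisField 2 n,
      Function.Injective (nm φ) ∧ ∃ T : Frame H C.stabAut (GaloisField 2 n) φ, T.proj e₀ = 1 := by
  classical
  haveI : Fact (Nat.Prime 2) := ⟨Nat.prime_two⟩
  haveI := hcyc
  have c := C.suzukiCtx hP hna hcyc
  obtain ⟨n, hn, hn1, hE, hH, -⟩ := C.suzuki_parameters hP hna hcyc
  refine ⟨n, hn, hn1, ?_⟩
  have hq : 1 < 2 ^ n := Nat.one_lt_two_pow (by omega)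
  have hsq : ∀ {x : H}, x ∈ Subgroup.center H → x * x = 1 := c.center_elem
  have hinvz : ∀ {x : H}, x * x = 1 → x ∈ Subgroup.center H := c.invol_center
  have hp2 : ∀ p : H, p * p ∈ Subgroup.center H := c.sq_mem_center
  have hcom : ∀ {z : H}, z ∈ Subgroup.center H → ∀ p, z * p = p * z := fun hz p =>
    (Subgroup.mem_center_iff.1 hz p).symm
  have hfpf : ∀ (l : 𝐄) (x : H), C.stabAut l x = x → x ≠ 1 → l = 1 := by
    intro l x h hx
    by_contra hl
    refine hx (Subtype.ext (C.fpf l.2 (fun h' => hl (Subtype.ext h')) x.2 ?_))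
    have h' : (l : G) * x * (l : G)⁻¹ = x := congrArg Subtype.val h
    exact mul_inv_eq_iff_eq_mul.1 h'
  have hinj : Function.Injective C.stabAut := by
    rw [injective_iff_map_eq_one]
    intro l h
    obtain ⟨x, -, -, hx, -, -, -⟩ := c.two_invol
    exact hfpf l x (by rw [h]; rfl) hx
  have hZ : Nat.card (Subgroup.center H) = 2 ^ n := by
    have h := c.card_group
    rw [← Nat.card_congr (MonoidHom.ofInjective hinj).toEquiv, hE] at h
    have := Nat.card_pos (α := Subgroup.center H)
    omega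
  let E := Additive ↥(Subgroup.center H)
  letI : AddCommGroup E := { (inferInstance : AddGroup E) with
    add_comm := fun x y => congrArg Additive.ofMul (Subtype.ext
      (hcom (Additive.toMul x).2 (Additive.toMul y).1)) }
  let V := Additive (H ⧸ Subgroup.center H)
  letI : AddCommGroup V := { (inferInstance : AddGroup V) with
    add_comm := fun x y => by
      obtain ⟨p, hp⟩ := QuotientGroup.mk_surjective (Additive.toMul x)
      obtain ⟨q, hq⟩ := QuotientGroup.mk_surjective (Additive.toMul y)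
      apply Additive.toMul.injective
      show Additive.toMul x * Additive.toMul y = Additive.toMul y * Additive.toMul x
      rw [← hp, ← hq, ← QuotientGroup.mk_mul, ← QuotientGroup.mk_mul]
      exact QuotientGroup.eq.2 (by
        rw [show (p * q)⁻¹ * (q * p) = q⁻¹ * p⁻¹ * q * p by group]
        exact c.comm_mem_center q p) }
  let qmap : 𝐄 → H ⧸ Subgroup.center H →* H ⧸ Subgroup.center H := fun l =>
    QuotientGroup.map _ _ (C.stabAut l).toMonoidHom fun x hx => Ctx.center_inv _ hx
  have hqmap : ∀ l (p : H), qmap l p = (C.stabAut l p : H) := fun l p => rfl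
  let ρV : 𝐄 →* AddMonoid.End V :=
    { toFun := fun l => MonoidHom.toAdditive (qmap l)
      map_one' := AddMonoidHom.ext fun x => by
        obtain ⟨p, hp⟩ := QuotientGroup.mk_surjective (Additive.toMul x)
        show Additive.ofMul (qmap _ (Additive.toMul x)) = x
        rw [← hp, hqmap, map_one]; exact congrArg Additive.ofMul hp
      map_mul' := fun l l' => AddMonoidHom.ext fun x => by
        obtain ⟨p, hp⟩ := QuotientGroup.mk_surjective (Additive.toMul x)
        show Additive.ofMul (qmap _ (Additive.toMul x)) =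
          Additive.ofMul (qmap _ (qmap _ (Additive.toMul x)))
        rw [← hp, hqmap, hqmap, hqmap, map_mul]; rfl }
  let fE : 𝐄 → ↥(Subgroup.center H) →* ↥(Subgroup.center H) := fun l =>
    ((C.stabAut l).toMonoidHom.comp (Subgroup.center H).subtype).codRestrict _ fun x =>
      Ctx.center_inv (C.stabAut l) x.2
  let ρE : 𝐄 →* AddMonoid.End E :=
    { toFun := fun l => MonoidHom.toAdditive (fE l)
      map_one' := AddMonoidHom.ext fun x => Subtype.ext (by
        show C.stabAut 1 _ = _
        rw [map_one]; rfl)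
      map_mul' := fun l l' => AddMonoidHom.ext fun x => Subtype.ext (by
        show C.stabAut (l * l') _ = _
        rw [map_mul]; rfl) }
  have hρV : ∀ (l : 𝐄) (p : H), ρV l (Additive.ofMul (p : H ⧸ Subgroup.center H)) =
      Additive.ofMul ((C.stabAut l p : H) : H ⧸ Subgroup.center H) := fun l p => rfl
  have hone : ∀ p : H, Additive.ofMul (p : H ⧸ Subgroup.center H) = (0 : V) ↔ p * p = 1 := by
    intro p
    have : Additive.ofMul (p : H ⧸ Subgroup.center H) = (0 : V) ↔ p ∈ Subgroup.center H :=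
      (Equiv.apply_eq_iff_eq Additive.ofMul (y := (1 : H ⧸ Subgroup.center H))).trans
        (QuotientGroup.eq_one_iff p)
    exact this.trans ⟨hsq, hinvz⟩
  have hsqz : ∀ (g : H) {z : H}, z ∈ Subgroup.center H → g * z * (g * z) = g * g := fun g z hz => by
    rw [mul_assoc, ← mul_assoc z, hcom hz g, mul_assoc, hsq hz, mul_one]
  have hkcomm : ∀ l l' : 𝐄, l * l' = l' * l := fun l l' => by
    obtain ⟨g, hg⟩ := IsCyclic.exists_generator (α := 𝐄)
    obtain ⟨i, rfl⟩ := hg l
    obtain ⟨j, rfl⟩ := hg l'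
    exact (Commute.refl g).zpow_zpow i j
  have hregV : ∀ x y : V, x ≠ 0 → y ≠ 0 → ∃! l : 𝐄, ρV l x = y := by
    refine regular_of_free ρV (fun l x hx h => ?_) ?_
    · obtain ⟨p, hp⟩ := QuotientGroup.mk_surjective (Additive.toMul x)
      obtain rfl : x = Additive.ofMul (p : H ⧸ Subgroup.center H) := by rw [hp]; rfl
      rw [hρV] at h
      have hm := QuotientGroup.eq.1 (Additive.ofMul.injective h).symm
      refine hfpf l (p * p) ?_ fun e => hx ((hone p).2 e)
      rw [map_mul]
      conv_lhs => rw [← mul_inv_cancel_left p (C.stabAut l p)]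
      exact hsqz p hm
    · show Nat.card 𝐄 + 1 = Nat.card (H ⧸ Subgroup.center H)
      have h := Subgroup.card_eq_card_quotient_mul_card_subgroup (Subgroup.center H)
      rw [hH, hZ, pow_two] at h
      rw [hE, ← Nat.eq_of_mul_eq_mul_right (by omega) h]
      omega
  have hregE : ∀ x y : E, x ≠ 0 → y ≠ 0 → ∃! l : 𝐄, ρE l x = y := by
    refine regular_of_free ρE (fun l x hx h => ?_) ?_
    · refine hfpf l ((Additive.toMul x : ↥(Subgroup.center H)) : H)
        (congrArg (fun z : E => ((Additive.toMul z : ↥(Subgroup.center H)) : H)) h) fun e => hx ?_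
      exact Additive.toMul.injective (Subtype.ext e)
    · show Nat.card 𝐄 + 1 = Nat.card (Subgroup.center H)
      omega
  obtain ⟨n', -, hVn, eV, χV, heV, hχV⟩ := singer (V := V)
    (fun v => by
      obtain ⟨p, hp⟩ := QuotientGroup.mk_surjective (Additive.toMul v)
      apply Additive.toMul.injective
      show Additive.toMul v * Additive.toMul v = 1
      rw [← hp, ← QuotientGroup.mk_mul, QuotientGroup.eq_one_iff]
      exact hp2 p)
    hkcomm ρV hregV (e₀ := Additive.ofMul (e₀ : H ⧸ Subgroup.center H))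
    (fun h => he₀ ((hone e₀).1 h))
  obtain ⟨n'', -, hEn, eE, χE, heE, hχE⟩ := singer (V := E)
    (fun x => Additive.toMul.injective (Subtype.ext (hsq (Additive.toMul x).2))) hkcomm ρE hregE
    (e₀ := Additive.ofMul ⟨e₀ * e₀, hp2 e₀⟩)
    (fun h => he₀ (congrArg (fun z : E => ((Additive.toMul z : ↥(Subgroup.center H)) : H)) h))
  obtain rfl : n'' = n := Nat.pow_right_injective le_rfl (by
    show 2 ^ n'' = 2 ^ n
    rw [← hEn]; exact hZ)
  obtain rfl : n' = n'' := Nat.pow_right_injective le_rfl (by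
    show 2 ^ n' = 2 ^ n''
    rw [← hVn]
    show Nat.card (H ⧸ Subgroup.center H) = 2 ^ n''
    have h := Subgroup.card_eq_card_quotient_mul_card_subgroup (Subgroup.center H)
    rw [hH, hZ, pow_two] at h
    exact (Nat.eq_of_mul_eq_mul_right (by omega) h).symm)
  letI : Fintype (GaloisField 2 n') := Fintype.ofFinite _
  let sqz : H → E := fun p => Additive.ofMul ⟨p * p, hp2 p⟩
  let pr : H → GaloisField 2 n' := fun p => eV (Additive.ofMul (p : H ⧸ Subgroup.center H))
  have hprm : ∀ p q, pr (p * q) = pr p + pr q := fun p q => by simp only [pr]; rw [← map_add]; rfl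
  have hpr0 : ∀ p, pr p = 0 ↔ p * p = 1 := fun p => by
    simp only [pr, EmbeddingLike.map_eq_zero_iff]
    exact hone p
  have hprK : ∀ (l : 𝐄) p, pr (C.stabAut l p) = (χV l : GaloisField 2 n') * pr p := fun l p => by
    simp only [pr]; rw [← hρV]; exact hχV l _
  let S : GaloisField 2 n' → GaloisField 2 n' := fun x =>
    eE (sqz (Quotient.out (Additive.toMul (eV.symm x))))
  have hS : ∀ p : H, S (pr p) = eE (sqz p) := by
    intro p
    simp only [S, pr, AddEquiv.symm_apply_apply]
    refine congrArg eE (Additive.toMul.injective (Subtype.ext ?_))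
    set q := Quotient.out (Additive.toMul (Additive.ofMul (p : H ⧸ Subgroup.center H)))
    have hq : (q : H ⧸ Subgroup.center H) = p := Quotient.out_eq _
    show q * q = p * p
    rw [← hsqz q (QuotientGroup.eq.1 hq), mul_inv_cancel_left]
  have hsqzK : ∀ (l : 𝐄) p, eE (sqz (C.stabAut l p)) = (χE l : GaloisField 2 n') * eE (sqz p) :=
    fun l p => by
      rw [← hχE]
      exact congrArg eE (Additive.toMul.injective (Subtype.ext (map_mul _ _ _).symm))
  have hpre : pr e₀ = 1 := heV
  have hsqe : eE (sqz e₀) = 1 := heE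
  have hS0 : S 0 = 0 := by
    have h := hS 1
    rw [(hpr0 1).2 (one_mul 1)] at h
    rw [h, ← map_zero eE]
    exact congrArg eE (Additive.toMul.injective (Subtype.ext (one_mul 1)))
  have hSu : ∀ l : 𝐄, S (χV l : GaloisField 2 n') = (χE l : GaloisField 2 n') := fun l => by
    rw [show (χV l : GaloisField 2 n') = pr (C.stabAut l e₀) by rw [hprK, hpre, mul_one], hS, hsqzK,
      hsqe, mul_one]
  set N := Nat.card (GaloisField 2 n')ˣ with hN
  obtain ⟨i, hi⟩ := MonoidHom.map_cyclic (χV.symm.trans χE).toMonoidHom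
  have hN0 : 0 < N := Nat.card_pos
  obtain ⟨m, hm0, hmN, hmi⟩ : ∃ m : ℕ, 0 < m ∧ m ≤ N ∧ ∀ x : (GaloisField 2 n')ˣ, x ^ i = x ^ m := by
    have key : ∀ x : (GaloisField 2 n')ˣ, x ^ i = x ^ (i % (N : ℤ)).toNat := fun x => by
      rw [← zpow_natCast, Int.toNat_of_nonneg (Int.emod_nonneg _ (by omega)), hN,
        zpow_mod_natCard]
    by_cases h0 : (i % (N : ℤ)).toNat = 0
    · refine ⟨N, hN0, le_rfl, fun x => ?_⟩
      rw [key x, h0, pow_zero, hN, pow_card_eq_one']
    · refine ⟨_, Nat.pos_of_ne_zero h0, ?_, key⟩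
      have := Int.emod_lt_of_pos i (show (0 : ℤ) < N by omega)
      omega
  have hmF : m < Fintype.card (GaloisField 2 n') := by
    rw [hN, Nat.card_units, Nat.card_eq_fintype_card] at hmN
    have := Fintype.card_pos (α := GaloisField 2 n')
    omega
  have hSpow : ∀ x, S x = x ^ m := by
    intro x
    by_cases hx : x = 0
    · rw [hx, hS0, zero_pow hm0.ne']
    · obtain ⟨l, hl⟩ := χV.surjective (Units.mk0 x hx)
      have h := hSu l
      rw [hl, Units.val_mk0] at h
      rw [h]
      have h2 : χE l = (Units.mk0 x hx) ^ i := by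
        rw [← hi, ← hl]; simp
      rw [h2, hmi, Units.val_pow_eq_pow_val, Units.val_mk0]
  have hSinj : ∀ x y, S x = S y → x = y := by
    intro x y h
    by_cases hx : x = 0
    · rw [hx, hS0] at h
      by_contra hne
      exact (pow_ne_zero m fun h0 => hne (hx.trans h0.symm)) ((hSpow y).symm.trans h.symm)
    by_cases hy : y = 0
    · rw [hy, hS0, hSpow] at h
      exact absurd h (pow_ne_zero m hx)
    obtain ⟨l, hl⟩ := χV.surjective (Units.mk0 x hx)
    obtain ⟨l', hl'⟩ := χV.surjective (Units.mk0 y hy)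
    have e1 : (χV l : GaloisField 2 n') = x := by rw [hl, Units.val_mk0]
    have e2 : (χV l' : GaloisField 2 n') = y := by rw [hl', Units.val_mk0]
    rw [← e1, ← e2, hSu, hSu] at h
    rw [← e1, ← e2, χE.injective (Units.ext h)]
  have hpc : ∀ p q : H, ⁅p, q⁆ ∈ Subgroup.center H := fun p q => by
    have := c.comm_mem_center p⁻¹ q⁻¹
    simpa [commutatorElement_def] using this
  have hcmul : ∀ g x y : H, ⁅g, x * y⁆ = ⁅g, x⁆ * ⁅g, y⁆ := fun g x y => by
    rw [show ⁅g, x * y⁆ = ⁅g, x⁆ * (x * ⁅g, y⁆ * x⁻¹) by simp only [commutatorElement_def]; group,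
      ← hcom (hpc g y) x, mul_inv_cancel_right]
  have hpair : ∀ g h : H, g * h * (g * h) = g * g * (h * h) * ⁅h, g⁆ := fun g h => by
    rw [show g * h * (g * h) = g * ⁅h, g⁆ * g * (h * h) by simp only [commutatorElement_def]; group,
      ← hcom (hpc h g) g, mul_assoc ⁅h, g⁆ g g, mul_assoc ⁅h, g⁆ (g * g) (h * h), hcom (hpc h g)]
  have hprs : ∀ x, ∃ p : H, pr p = x := fun x => by
    obtain ⟨p, hp⟩ := QuotientGroup.mk_surjective (Additive.toMul (eV.symm x))
    exact ⟨p, by simp only [pr]; rw [hp]; exact eV.apply_symm_apply x⟩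
  have hlin_false : (∀ x y, S (x + y) = S x + S y) → False := by
    intro hlin
    obtain ⟨g, h, hgh⟩ := c.noncomm
    have e := hlin (pr h) (pr g)
    rw [← hprm, hS, hS, hS, ← map_add] at e
    have e' := congrArg (fun z : E => ((Additive.toMul z : ↥(Subgroup.center H)) : H)) (eE.injective e)
    change h * g * (h * g) = h * h * (g * g) at e'
    rw [hpair h g, mul_eq_left] at e'
    exact hgh (commutatorElement_eq_one_iff_mul_comm.1 e')
  have hsum : ∀ x y : H, sqz (x * y) = sqz x + sqz y + Additive.ofMul ⟨⁅y, x⁆, hpc y x⟩ := fun x y =>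
    Additive.toMul.injective (Subtype.ext (hpair x y))
  have hcube : ∀ x y z : GaloisField 2 n', S (x + y + z) =
      S (x + y) + S (x + z) + S (y + z) + S x + S y + S z := by
    intro x y z
    obtain ⟨p, rfl⟩ := hprs x
    obtain ⟨q, rfl⟩ := hprs y
    obtain ⟨o, rfl⟩ := hprs z
    simp only [← hprm, hS, hsum]
    have e2 : Additive.ofMul (⟨⁅o, p * q⁆, hpc o (p * q)⟩ : ↥(Subgroup.center H)) =
        Additive.ofMul ⟨⁅o, p⁆, hpc o p⟩ + Additive.ofMul ⟨⁅o, q⁆, hpc o q⟩ :=
      Additive.toMul.injective (Subtype.ext (hcmul o p q))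
    rw [e2]
    simp only [map_add]
    linear_combination -(eE (sqz p) + eE (sqz q) + eE (sqz o)) *
      (CharTwo.two_eq_zero (R := GaloisField 2 n'))
  have hquad : ∀ x y : GaloisField 2 n', (x + y + 1) ^ m =
      (x + y) ^ m + (x + 1) ^ m + (y + 1) ^ m + x ^ m + y ^ m + 1 := fun x y => by
    have h := hcube x y 1
    simp only [hSpow, one_pow] at h
    exact h
  obtain ⟨j, k, hjk⟩ := quad_pow hm0 hmF hquad
  let τ := iterateFrobeniusEquiv (GaloisField 2 n') 2 j
  let φ := iterateFrobeniusEquiv (GaloisField 2 n') 2 k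
  rcases hjk with rfl | rfl
  swap
  · exact (hlin_false fun x y => by rw [hSpow, hSpow, hSpow, add_pow_char_pow _ _ 2 j]).elim
  have hτS : ∀ x, S x = τ (nm φ x) := by
    intro x
    rw [hSpow]
    simp only [τ, φ, nm, iterateFrobeniusEquiv_def]
    rw [← pow_succ', ← pow_mul, mul_comm]
  refine ⟨φ, fun x y h => hSinj x y (by rw [hτS, hτS, h]), ?_⟩
  let ι : GaloisField 2 n' → H := fun y =>
    ((Additive.toMul (eE.symm (τ y)) : ↥(Subgroup.center H)) : H)
  have hιinj : Function.Injective ι := fun x y h =>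
    τ.injective (eE.symm.injective (Additive.toMul.injective (Subtype.ext h)))
  have hιof : ∀ (z : H) (hz : z ∈ Subgroup.center H) (y : GaloisField 2 n'),
      eE (Additive.ofMul ⟨z, hz⟩) = τ y → z = ι y := fun z hz y h => by
    simp only [ι]; rw [← h, eE.symm_apply_apply]; rfl
  refine ⟨{
    proj := pr
    ι := ι
    χ := χV
    proj_mul := hprm
    ker := fun p => ⟨fun h => ?_, ?_⟩
    ι_add := fun x y => by simp only [ι]; rw [map_add, map_add]; rfl
    ι_inj := hιinj
    ι_central := fun y p => hcom (Additive.toMul (eE.symm (τ y))).2 p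
    sq := fun p => hιof _ (hp2 p) _ (by rw [← hτS]; exact (hS p).symm)
    proj_act := hprK
    ι_act := fun l y => ?_ }, hpre⟩
  · have hp : p ∈ Subgroup.center H := hinvz ((hpr0 p).1 h)
    exact ⟨τ.symm (eE (Additive.ofMul ⟨p, hp⟩)), hιof _ hp _ (τ.apply_symm_apply _).symm⟩
  · rintro ⟨y, rfl⟩
    exact (hpr0 _).2 (hsq (Additive.toMul (eE.symm (τ y))).2)
  · refine hιof _ (Ctx.center_inv _ (Additive.toMul (eE.symm (τ y))).2) _ ?_
    rw [map_mul, ← hτS, hSu]
    have h := hχE l (eE.symm (τ y))
    rw [eE.apply_symm_apply] at h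
    exact h

end CfsgLib.Suzuki.Ident
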