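import Cfsg.Agent.Lib.Suzuki.Ident.Unique
import Cfsg.Agent.Lib.Suzuki.Model

/-!
The coordinates of the Suzuki group, and the twist determined by its square.
-/

set_option autoImplicit false
set_option linter.unusedSectionVars false

namespace CfsgLib.Suzuki.Ident

open CfsgLib.Suzuki

variable {F : Type*} [Field F] [CharP F 2] [Fintype F] {m : ℕ}

/-- An involutive automorphism of a field with `2 ^ odd` elements is trivial. -/
theorem eq_of_invol (σ : F ≃+* F) (hσ : ∀ x, σ (σ x) = x)
    (hF : Fintype.card F = 2 ^ (2 * m + 1)) (x : F) : σ x = x := by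
  by_contra hx
  let f : F →+ F := AddMonoidHom.id F + (σ : F →+* F).toAddMonoidHom
  have hf : ∀ y, f y = y + σ y := fun y => rfl
  have heq : f.range = f.ker := by
    refine le_antisymm ?_ fun z hz => ?_
    · rintro _ ⟨y, rfl⟩
      show f (f y) = 0
      rw [hf, hf, map_add, hσ]
      linear_combination (y + σ y) * CharTwo.two_eq_zero (R := F)
    · have hz' : σ z = z := (CharTwo.add_eq_zero.1 (show z + σ z = 0 from hz)).symm
      have hc : x + σ x ≠ 0 := fun h => hx (CharTwo.add_eq_zero.1 h).symm
      refine ⟨z * x / (x + σ x), ?_⟩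
      rw [hf, map_div₀, map_mul, map_add, hσ, hz', add_comm (σ x) x, ← add_div, ← mul_add,
        mul_div_cancel_right₀ _ hc]
  have h1 := AddSubgroup.card_eq_card_quotient_mul_card_addSubgroup f.ker
  rw [Nat.card_congr (QuotientAddGroup.quotientKerEquivRange f).toEquiv, heq,
    Nat.card_eq_fintype_card (α := F), hF] at h1
  obtain ⟨k, -, hk⟩ := (Nat.dvd_prime_pow Nat.prime_two).1 (Dvd.intro_left _ h1.symm)
  rw [hk, ← pow_add] at h1
  have := Nat.pow_right_injective le_rfl h1
  omega

/-- `th` as an automorphism. -/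
noncomputable def thE (h : ThSq F m) : F ≃+* F :=
  RingEquiv.ofBijective (th m) ⟨RingHom.injective _, th_surjective h⟩

theorem thE_apply (h : ThSq F m) (x : F) : thE h x = th m x := rfl

/-- A twist with square the squaring map is `th`. -/
theorem eq_thE (hF : Fintype.card F = 2 ^ (2 * m + 1)) (φ : F ≃+* F) (hφ : ∀ x, φ (φ x) = x ^ 2) :
    φ = thE (thSq_of_card hF) := by
  have h := thSq_of_card hF
  have hc : ∀ x, φ (th m x) = th m (φ x) := fun x => by rw [th_def, th_def, map_pow]
  refine RingEquiv.ext fun x => ?_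
  have h1 : ∀ y, (φ.trans (thE h).symm) ((φ.trans (thE h).symm) y) = y := by
    intro y
    simp only [RingEquiv.trans_apply]
    apply (thE h).injective
    rw [(thE h).apply_symm_apply]
    apply (thE h).injective
    rw [thE_apply, ← hc, ← thE_apply h, (thE h).apply_symm_apply, hφ, thE_apply, thE_apply, h]
  have h2 := congrArg (thE h) (eq_of_invol _ h1 hF x)
  rwa [RingEquiv.trans_apply, (thE h).apply_symm_apply] at h2

theorem nm_thE_injective (h : ThSq F m) : Function.Injective (nm (thE h)) := by
  intro x y e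
  simp only [nm, thE_apply] at e
  by_cases hx : x = 0
  · subst hx
    rcases mul_eq_zero.1 (by rw [← e, zero_mul] : y * th m y = 0) with h' | h'
    · exact h'.symm
    · exact ((map_eq_zero (th m)).1 h').symm
  have hne : x * th m x ≠ 0 := mul_ne_zero hx (by simpa using hx)
  have e2 := congrArg (th m) e
  rw [map_mul, map_mul, h, h] at e2
  refine mul_left_cancel₀ hne ?_
  calc x * th m x * x = th m x * x ^ 2 := by ring
    _ = th m y * y ^ 2 := e2
    _ = y * th m y * y := by ring
    _ = x * th m x * y := by rw [e]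

/-- The square root of the twist on the units. -/
noncomputable def thU (h : ThSq F m) : Fˣ →* Fˣ := Units.map ((thE h).symm : F →* F)

theorem th_thU (h : ThSq F m) (μ : Fˣ) : th m (thU h μ : F) = μ := (thE h).apply_symm_apply _

theorem sz_struct (h : ThSq F m) :
    wG h * tG h 0 1 * wG h = tG h (1 : F) 0 * wG h * tG h 1 1 := by
  refine Subtype.ext (Subtype.ext ?_)
  show (wSL F).1 * tMat m 0 1 * (wSL F).1 = tMat m (1 : F) 0 * (wSL F).1 * tMat m 1 1
  have h2 : (1 : F) + 1 = 0 := CharTwo.add_self_eq_zero 1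
  ext i j
  fin_cases i <;> fin_cases j <;>
    simp [wSL, tMat, Matrix.mul_apply, Fin.sum_univ_four, h2]

/-- The coordinates of the Suzuki group. -/
noncomputable def szCoords (hm : 1 ≤ m) (hF : Fintype.card F = 2 ^ (2 * m + 1)) :
    Coords (Cfsg.Sz F m) ↥(Cfsg.suzukiOvoid F m) (thE (thSq_of_card hF)) (1 : F) where
  a := ⟨pInf F, mem_ovoid.2 (Or.inl rfl)⟩
  b := ⟨pFin m 0 0, mem_ovoid.2 (Or.inr ⟨_, _, rfl⟩)⟩
  el x y := tG (thSq_of_card hF) x y
  sc μ := hG (thSq_of_card hF) (thU (thSq_of_card hF) μ)
  wt := wG (thSq_of_card hF)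
  el_fix x y := Subtype.ext (tSL_smul_inf x y)
  sc_fix_a μ := Subtype.ext (hSL_smul_inf _)
  sc_fix_b μ := Subtype.ext (by
    show hSL (F := F) m _ • pFin m (0 : F) 0 = pFin m (0 : F) 0
    rw [hSL_smul (thSq_of_card hF), mul_zero, mul_zero])
  w_sq := wG_sq _
  w_a := Subtype.ext wSL_smul_inf
  bij z hz := by
    rcases mem_ovoid.1 z.2 with e | ⟨x, y, e⟩
    · exact absurd (Subtype.ext e) hz
    · have hpt : ∀ x' y' : F, tSL m x' y' • pFin m (0 : F) 0 = pFin m x' y' := fun x' y' => by
        rw [tSL_smul (thSq_of_card hF)]; simp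
      refine ⟨(x, y), Subtype.ext ((hpt x y).trans e.symm), fun q hq => ?_⟩
      obtain ⟨e1, e2⟩ := pFin_inj (((hpt q.1 q.2).symm.trans (congrArg Subtype.val hq)).trans e)
      exact Prod.ext e1 e2
  ab e := pFin_ne_inf (0 : F) 0 (congrArg Subtype.val e).symm
  el_mul x y x' y' := by
    rw [tG_mul, thE_apply_cpar (thSq_of_card hF)]
    congr 1 <;> ring
  sc_el μ x y := by
    rw [hG_conj, th_thU, nm, thE_apply]
    congr 1
    have h2 := congrArg (th m) (th_thU (thSq_of_card hF) μ)
    rw [thSq_of_card hF] at h2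
    rw [h2]
  w_sc μ := by
    have := hG_w (thSq_of_card hF) (thU (thSq_of_card hF) μ)
    rw [map_inv, inv_eq_of_mul_eq_one_right (wG_sq (thSq_of_card hF))] at this
    exact this
  struct_eq := sz_struct _
  gen S h1 h2 h3 := induction_on_sz hm hF h1
    (fun s => by
      have := h2 (Units.map ((th m : F →+* F) : F →* F) s)
      rwa [show thU (thSq_of_card hF) (Units.map ((th m : F →+* F) : F →* F) s) = s from
        Units.ext ((thE (thSq_of_card hF)).symm_apply_apply _)] at this) h3
  faithful g hg := by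
    have := faithful (F := F) hm hF
    exact FaithfulSMul.eq_of_smul_eq_smul fun z => (hg z).trans (one_smul _ z).symm
  inj := nm_thE_injective _
where
  thE_apply_cpar (h : ThSq F m) {x x' : F} : cpar (thE h) 1 x x' = th m x * x' := by
    simp [cpar, thE_apply, CharTwo.add_self_eq_zero]

end CfsgLib.Suzuki.Ident
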