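import Cfsg.Agent.Lib.Suzuki.Ident.GroupPart
import Cfsg.Agent.Lib.Suzuki.Ident.KernelFrame
import Cfsg.Agent.Lib.Suzuki.Ident.Model
import Cfsg.Agent.Lib.Chev.ZassSimple

/-!
A Zassenhaus group with a nonabelian 2-group as kernel is a Suzuki group.
-/

set_option autoImplicit false
set_option linter.unusedSectionVars false

namespace CfsgLib.Suzuki.Ident

open MulAction CfsgLib.Clifford

universe u v

variable {G : Type u} {Ω : Type v} [Group G] [Finite G] [MulAction G Ω] [Fintype Ω]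
  {a b : Ω} {H : Subgroup G}

local notation "𝐄" => (stabilizer G a ⊓ stabilizer G b : Subgroup G)

/-- The coordinates of such a group. -/
theorem exists_coords (C : Zass G Ω a b H) (hP : IsPGroup 2 H) (hna : ∃ u v : H, u * v ≠ v * u)
    (hcyc : IsCyclic 𝐄) :
    ∃ n, Odd n ∧ 1 < n ∧ ∃ (φ : GaloisField 2 n ≃+* GaloisField 2 n) (α : GaloisField 2 n),
      Nonempty (Coords G Ω φ α) := by
  classical
  haveI : Fact (Nat.Prime 2) := ⟨Nat.prime_two⟩
  obtain ⟨w, r, hwa, hwb, hww, hr, hr1, hr2, he⟩ := exists_root C hP hna hcyc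
  have hr4 : r⁻¹ * r⁻¹ = r * r := by
    rw [← mul_inv_rev]; exact inv_eq_of_mul_eq_one_right hr2
  have he₀ : (⟨r⁻¹, inv_mem hr⟩ : H) * ⟨r⁻¹, inv_mem hr⟩ ≠ 1 := fun e =>
    hr1 (hr4.symm.trans (congrArg Subtype.val e))
  obtain ⟨n, hn, hn1, φ, hinj, T, hT⟩ := exists_frame C hP hna hcyc he₀
  letI : Fintype (GaloisField 2 n) := Fintype.ofFinite _
  obtain ⟨α, el, hmul, hact, hbij, h10, h0⟩ := T.exists_el hT
  have hz : ((el 0 1 : H) : G) = r * r := by
    have h := congrArg Subtype.val (T.sq ⟨r⁻¹, inv_mem hr⟩)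
    rw [hT, nm_one, ← h0] at h
    exact h.symm.trans hr4
  have h11 : ((el 1 1 : H) : G) = r := by
    have h := hmul 1 0 0 1
    simp only [cpar_zero_right, add_zero, zero_add] at h
    rw [← h, Subgroup.coe_mul, h10, hz]
    group
  let sc : (GaloisField 2 n)ˣ → G := fun μ => ((T.χ.symm μ : 𝐄) : G)
  have hscmem : ∀ μ, sc μ ∈ 𝐄 := fun μ => (T.χ.symm μ).2
  refine ⟨n, hn, hn1, φ, α, ⟨{
    a := a
    b := b
    el := fun x y => (el x y : G)
    sc := sc
    wt := w
    el_fix := fun x y => C.fix _ (el x y).2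
    sc_fix_a := fun μ => (hscmem μ).1
    sc_fix_b := fun μ => (hscmem μ).2
    w_sq := hww
    w_a := hwa
    bij := fun z hz => ?_
    ab := C.ab
    el_mul := fun x y x' y' => congrArg Subtype.val (hmul x y x' y')
    sc_el := fun μ x y => ?_
    w_sc := fun μ => ?_
    struct_eq := ?_
    gen := fun S h1 h2 h3 g => ?_
    faithful := C.faithful
    inj := hinj }⟩⟩
  · obtain ⟨u, hu, huni⟩ := C.reg z hz
    obtain ⟨q, hq, hquni⟩ := hbij u
    refine ⟨q, ?_, fun q' hq' => hquni q' (huni _ hq')⟩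
    show (el q.1 q.2 : G) • b = z
    rw [hq, hu]
  · have h := congrArg Subtype.val (hact (T.χ.symm μ) x y)
    rw [T.χ.apply_symm_apply] at h
    exact h
  · have := C.inv w hwa hwb _ (hscmem μ)
    rwa [inv_eq_of_mul_eq_one_right hww] at this
  · show w * (el 0 1 : G) * w = (el 1 0 : G) * w * (el 1 1 : G)
    rw [hz, h10, h11]
    exact he
  · have hH : ∀ u ∈ H, u ∈ S := fun u hu => by
      obtain ⟨q, hq, -⟩ := hbij ⟨u, hu⟩
      have := h1 q.1 q.2
      rwa [show (el q.1 q.2 : G) = u from congrArg Subtype.val hq] at this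
    have hE : ∀ k ∈ 𝐄, k ∈ S := fun k hk => by
      have := h2 (T.χ ⟨k, hk⟩)
      rwa [show sc (T.χ ⟨k, hk⟩) = k from congrArg Subtype.val (T.χ.symm_apply_apply ⟨k, hk⟩)] at this
    have hB : ∀ g : G, g • a = a → g ∈ S := fun g hg => by
      obtain ⟨u, hu, k, hk, rfl⟩ := C.exists_decomp hg
      exact mul_mem (hH u hu) (hE k hk)
    by_cases hg : g • a = a
    · exact hB g hg
    obtain ⟨u, hu, -⟩ := C.reg (g • a) hg
    have hfix : (((u : G) * w)⁻¹ * g) • a = a := by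
      rw [mul_smul, inv_smul_eq_iff, mul_smul, hwa, hu]
    have := mul_mem (mul_mem (hH u u.2) h3) (hB _ hfix)
    rwa [mul_inv_cancel_left] at this

/-- The identification. -/
theorem isoSuzuki_of_zass (C : Zass G Ω a b H) (hP : IsPGroup 2 H)
    (hna : ∃ u v : H, u * v ≠ v * u) (hcyc : IsCyclic 𝐄) : Cfsg.Lie.IsoSuzuki G := by
  classical
  haveI : Fact (Nat.Prime 2) := ⟨Nat.prime_two⟩
  obtain ⟨n, hn, hn1, φ, α, ⟨D⟩⟩ := exists_coords C hP hna hcyc
  obtain ⟨m, rfl⟩ := hn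
  letI : Fintype (GaloisField 2 (2 * m + 1)) := Fintype.ofFinite _
  have hF : Fintype.card (GaloisField 2 (2 * m + 1)) = 2 ^ (2 * m + 1) := by
    rw [← Nat.card_eq_fintype_card, GaloisField.card 2 _ (by omega)]
  have hm : 1 ≤ m := by omega
  have hne : ∃ t : GaloisField 2 (2 * m + 1), t ≠ 0 ∧ t ≠ 1 := by
    obtain ⟨x, hx⟩ := exists_unit_ne_one (F := GaloisField 2 (2 * m + 1)) hm hF
    exact ⟨x, x.ne_zero, fun e => hx (Units.ext e)⟩
  have key : ∀ (φ : GaloisField 2 (2 * m + 1) ≃+* GaloisField 2 (2 * m + 1)),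
      Coords G Ω φ (1 : GaloisField 2 (2 * m + 1)) → Cfsg.Lie.IsoSuzuki G := by
    intro φ D
    have hsq := D.funEq.phi_sq rfl
    obtain rfl := eq_thE hF φ hsq
    obtain ⟨e⟩ := Coords.nonempty_iso D (szCoords hm hF) hsq
    exact ⟨GaloisField 2 (2 * m + 1), inferInstance, inferInstance, m, hm, hF,
      ⟨e.trans (szEquiv hm hF)⟩⟩
  rcases D.funEq.param hne with rfl | rfl
  · exact key _ D.flip
  · exact key _ D

/-- A simple Zassenhaus group with a nonabelian 2-group as kernel is a Suzuki group. -/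
theorem isoSuzuki_of_kernel (hZ : Cfsg.IsZassenhausGroup G Ω) [IsSimpleGroup G] (hab : a ≠ b)
    (U : Subgroup G) (hUle : U ≤ stabilizer G a)
    (hUn : ∀ g ∈ stabilizer G a, ∀ u ∈ U, g * u * g⁻¹ ∈ U)
    (hreg : ∀ c d : Ω, c ≠ a → d ≠ a → ∃! u : U, (u : G) • c = d)
    (hU2 : IsPGroup 2 U) (hUna : ∃ u v : U, u * v ≠ v * u) : Cfsg.Lie.IsoSuzuki G := by
  classical
  have hn' : (U.subgroupOf (stabilizer G a)).Normal := ⟨fun u hu g => by
    rw [Subgroup.mem_subgroupOf] at hu ⊢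
    exact hUn g g.2 u hu⟩
  have hodd : Odd (Nat.card 𝐄) := by
    rcases Nat.even_or_odd (Nat.card 𝐄) with he | ho
    · obtain ⟨u, v, huv⟩ := hUna
      exact absurd ((Cfsg.Agent.S0738.result hZ hab (Cfsg.Agent.S0741.result hZ hab he) U hUle hn'
        hreg).1.is_comm.comm u v) huv
    · exact ho
  have hfix : ∀ u ∈ U, u ≠ 1 → ∀ c : Ω, u • c = c → c = a := fun u hu hu1 c hc =>
    by_contra fun hca => hu1 (congrArg Subtype.val ((hreg c c hca hca).unique
      (y₁ := (⟨u, hu⟩ : U)) hc (show ((1 : U) : G) • c = c from one_smul _ _)))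
  have hcard : Nat.card U + 1 = Fintype.card Ω := by
    have e : Nat.card U = Nat.card {z : Ω // z ≠ a} := by
      refine Nat.card_eq_of_bijective (fun u => ⟨(u : G) • b, fun h => hab
        (smul_left_cancel (u : G) ((hUle u.2 : (u : G) • a = a).trans h.symm))⟩)
        ⟨fun u v h => ?_, fun z => ?_⟩
      · exact (hreg b ((v : G) • b) hab.symm (fun h' => hab (smul_left_cancel (v : G)
          ((hUle v.2 : (v : G) • a = a).trans h'.symm)))).unique (congr_arg Subtype.val h) rfl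
      · obtain ⟨u, hu, -⟩ := hreg b z.1 hab.symm z.2
        exact ⟨u, Subtype.ext hu⟩
    have := Fintype.card_pos_iff.2 (⟨a⟩ : Nonempty Ω)
    rw [e, Nat.card_eq_fintype_card, Fintype.card_subtype_compl, Fintype.card_subtype_eq]
    omega
  exact isoSuzuki_of_zass (CfsgLib.Clifford.zass_of_kernel hZ hab hodd
    (CfsgLib.Clifford.zass_inv_of_simple hZ hab hodd) U hUle hcard hfix) hU2 hUna
    (Cfsg.Agent.S0345.result hZ hab).1

end CfsgLib.Suzuki.Ident
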