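import Mathlib

/-!
The field identities forced on the coordinates of a Zassenhaus group whose kernel is a Suzuki
2-group: the cocycle parameter is zero or one, and then the twist squares to the squaring map.
-/

set_option autoImplicit false
set_option linter.unusedSectionVars false
set_option linter.unusedSimpArgs false

namespace CfsgLib.Suzuki.Ident

variable {F : Type*} [Field F]

/-- The norm-like map `x φ(x)`. -/
def nm (φ : F ≃+* F) (x : F) : F := x * φ x

theorem nm_mul (φ : F ≃+* F) (x y : F) : nm φ (x * y) = nm φ x * nm φ y := by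
  simp only [nm, map_mul]; ring

@[simp] theorem nm_zero (φ : F ≃+* F) : nm φ (0 : F) = 0 := by simp [nm]

@[simp] theorem nm_one (φ : F ≃+* F) : nm φ (1 : F) = 1 := by simp [nm]

theorem nm_ne_zero (φ : F ≃+* F) {x : F} (hx : x ≠ 0) : nm φ x ≠ 0 :=
  mul_ne_zero hx (fun h => hx (φ.injective (h.trans (map_zero φ).symm)))

/-- The inverse of `nm`. -/
noncomputable def psi (φ : F ≃+* F) : F → F := Function.invFun (nm φ)

section Psi

variable [Finite F] {φ : F ≃+* F} (hφ : Function.Injective (nm φ))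

include hφ

theorem nm_psi (t : F) : nm φ (psi φ t) = t :=
  Function.rightInverse_invFun (Finite.injective_iff_surjective.1 hφ) t

theorem psi_nm (x : F) : psi φ (nm φ x) = x := Function.leftInverse_invFun hφ x

theorem psi_mul (s t : F) : psi φ (s * t) = psi φ s * psi φ t :=
  hφ (by rw [nm_psi hφ, nm_mul, nm_psi hφ, nm_psi hφ])

theorem psi_zero : psi φ (0 : F) = 0 := hφ (by rw [nm_psi hφ, nm_zero])

theorem psi_one : psi φ (1 : F) = 1 := hφ (by rw [nm_psi hφ, nm_one])

theorem psi_ne_zero {t : F} (ht : t ≠ 0) : psi φ t ≠ 0 := fun h =>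
  ht (by rw [← nm_psi hφ t, h, nm_zero])

theorem psi_ne_one {t : F} (ht : t ≠ 1) : psi φ t ≠ 1 := fun h =>
  ht (by rw [← nm_psi hφ t, h, nm_one])

theorem psi_inv (t : F) : psi φ t⁻¹ = (psi φ t)⁻¹ := by
  by_cases ht : t = 0
  · rw [ht, inv_zero, psi_zero hφ, inv_zero]
  · exact eq_inv_of_mul_eq_one_left (by rw [← psi_mul hφ, inv_mul_cancel₀ ht, psi_one hφ])

theorem psi_mul_phi (t : F) : psi φ t * φ (psi φ t) = t := nm_psi hφ t

end Psi

variable [CharP F 2]

theorem four_eq_zero : (4 : F) = 0 := by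
  linear_combination (2 : F) * CharTwo.two_eq_zero (R := F)

theorem add_one_ne_zero {x : F} (h : x ≠ 1) : 1 + x ≠ 0 := fun e =>
  h (CharTwo.add_eq_zero.1 e).symm

/-- The argument of the second functional equation. -/
noncomputable def argA (φ : F ≃+* F) (α t : F) : F :=
  (t + α * φ (psi φ t) + (α + 1) * psi φ t) / nm φ (1 + psi φ t)

/-- The functional equations of the first coordinate of the involution. -/
structure FunEq (φ : F ≃+* F) (α : F) (mT : F → F) : Prop where
  inj : Function.Injective (nm φ)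
  zero : mT 0 = 0
  e1 : ∀ t, t ≠ 0 → mT (t + 1) = 1 + psi φ t * mT t
  ea : ∀ t, t ≠ 0 → t ≠ 1 → mT (argA φ α t) =
    (1 + psi φ t) * (1 + psi φ (t + 1)) / (psi φ t * psi φ (t + 1))

namespace FunEq

variable [Finite F] {φ : F ≃+* F} {α : F} {mT : F → F} (E : FunEq φ α mT)

include E

theorem argA_inv {t : F} (h0 : t ≠ 0) (h1 : t ≠ 1) : argA φ α t⁻¹ = argA φ α t + 1 := by
  have hA : φ (psi φ t) ≠ 0 := fun h => psi_ne_zero E.inj h0 (φ.injective (h.trans (map_zero φ).symm))
  have ha := psi_ne_zero E.inj h0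
  have haA := psi_mul_phi E.inj t
  have hd : nm φ (1 + psi φ t) ≠ 0 := nm_ne_zero φ (add_one_ne_zero (psi_ne_one E.inj h1))
  simp only [argA, nm, psi_inv E.inj, map_add, map_one, map_inv₀] at hd ⊢
  have e : (1 : F) + (psi φ t)⁻¹ = (1 + psi φ t) / psi φ t := by field_simp; ring
  have e' : (1 : F) + (φ (psi φ t))⁻¹ = (1 + φ (psi φ t)) / φ (psi φ t) := by field_simp; ring
  rw [e, e']
  generalize psi φ t = a at hd ha haA hA ⊢
  generalize φ a = A at hd haA hA ⊢
  subst haA
  obtain ⟨hd1, hd2⟩ := mul_ne_zero_iff.1 hd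
  field_simp
  linear_combination (norm := (ring_nf; simp [CharTwo.two_eq_zero, four_eq_zero]))

/-- The identity `P` at `t`. -/
theorem quad {t : F} (h0 : t ≠ 0) (h1 : t ≠ 1) :
    t ^ 2 * ((1 + psi φ t + psi φ (t + 1)) * (1 + φ (psi φ t) + φ (psi φ (t + 1)))) =
      (t + α * φ (psi φ t) + (α + 1) * psi φ t) * (t + psi φ (t + 1) + φ (psi φ (t + 1))) := by
  have hu0 : t + 1 ≠ 0 := fun h => h1 (CharTwo.add_eq_zero.1 h)
  have hu1 : t + 1 ≠ 1 := fun h => h0 (by linear_combination h)
  have ha := psi_ne_zero E.inj h0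
  have hb := psi_ne_zero E.inj hu0
  have ha1 := add_one_ne_zero (psi_ne_one E.inj h1)
  have hb1 := add_one_ne_zero (psi_ne_one E.inj hu1)
  have hd : nm φ (1 + psi φ t) ≠ 0 := nm_ne_zero φ ha1
  have m1 := E.ea t h0 h1
  have hI0 : argA φ α t ≠ 0 := fun h => by
    rw [h, E.zero] at m1
    exact div_ne_zero (mul_ne_zero ha1 hb1) (mul_ne_zero ha hb) m1.symm
  have m2 := E.ea t⁻¹ (inv_ne_zero h0) (fun h => h1 (inv_eq_one.1 h))
  have hb' : psi φ (t⁻¹ + 1) = psi φ (t + 1) / psi φ t := by
    rw [show t⁻¹ + 1 = (t + 1) * t⁻¹ by rw [add_mul, mul_inv_cancel₀ h0, one_mul, add_comm],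
      psi_mul E.inj, psi_inv E.inj, div_eq_mul_inv]
  rw [argA_inv E h0 h1, psi_inv E.inj, hb', E.e1 _ hI0, m1] at m2
  have key : psi φ (argA φ α t) * ((1 + psi φ t) * (1 + psi φ (t + 1))) =
      psi φ t ^ 2 * (1 + psi φ t + psi φ (t + 1)) := by
    generalize psi φ (argA φ α t) = X at m2 ⊢
    generalize psi φ t = a at m2 ha ha1 ⊢
    generalize psi φ (t + 1) = b at m2 hb hb1 ⊢
    field_simp at m2
    linear_combination (norm := (ring_nf <;> simp [CharTwo.two_eq_zero, four_eq_zero])) m2
  have key2 := congrArg (nm φ) key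
  simp only [nm_mul, nm_psi E.inj, sq] at key2
  rw [argA, div_mul_eq_mul_div, ← mul_assoc _ (nm φ (1 + psi φ t)), mul_right_comm _ (nm φ (1 + psi φ t)),
    mul_div_cancel_right₀ _ hd] at key2
  rw [sq, ← show nm φ (1 + psi φ t + psi φ (t + 1)) =
    (1 + psi φ t + psi φ (t + 1)) * (1 + φ (psi φ t) + φ (psi φ (t + 1))) by
      simp [nm, map_add], ← key2]
  have hbB := psi_mul_phi E.inj (t + 1)
  simp only [nm, map_add, map_one]
  linear_combination (norm := (ring_nf; simp [CharTwo.two_eq_zero, four_eq_zero]))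
    (t + α * φ (psi φ t) + (α + 1) * psi φ t) * hbB

/-- The linear relation. -/
theorem rel {t : F} (h0 : t ≠ 0) (h1 : t ≠ 1) :
    t * ((α + 1) * φ (psi φ t) + α * psi φ t) +
      (t + 1) * ((α + 1) * φ (psi φ (t + 1)) + α * psi φ (t + 1)) = 1 := by
  have hu0 : t + 1 ≠ 0 := fun h => h1 (CharTwo.add_eq_zero.1 h)
  have hu1 : t + 1 ≠ 1 := fun h => h0 (by linear_combination h)
  have hP := quad E h0 h1
  have hQ := quad E hu0 hu1
  rw [show t + 1 + 1 = t by rw [add_assoc, CharTwo.add_self_eq_zero, add_zero]] at hQ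
  have haA := psi_mul_phi E.inj t
  have hbB := psi_mul_phi E.inj (t + 1)
  linear_combination (norm := (ring_nf; simp [CharTwo.two_eq_zero, four_eq_zero])) hP + hQ + haA + hbB

/-- Either the first defect vanishes or `φ` fixes `ψ t`. -/
theorem defect (hα : α ≠ 0) {t : F} (h0 : t ≠ 0) (h1 : t ≠ 1) :
    t * psi φ t + (t + 1) * psi φ (t + 1) + 1 = 0 ∨ φ (psi φ t) = psi φ t := by
  have hr := rel E h0 h1
  have hr' := rel E (inv_ne_zero h0) (fun h => h1 (inv_eq_one.1 h))
  have hb' : psi φ (t⁻¹ + 1) = psi φ (t + 1) / psi φ t := by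
    rw [show t⁻¹ + 1 = (t + 1) * t⁻¹ by rw [add_mul, mul_inv_cancel₀ h0, one_mul, add_comm],
      psi_mul E.inj, psi_inv E.inj, div_eq_mul_inv]
  rw [hb', map_div₀, psi_inv E.inj, map_inv₀] at hr'
  have hA : φ (psi φ t) ≠ 0 := fun h => psi_ne_zero E.inj h0 (φ.injective (h.trans (map_zero φ).symm))
  have ha := psi_ne_zero E.inj h0
  generalize psi φ t = a at hr hr' ha hA ⊢
  generalize φ a = A at hr hr' hA ⊢
  generalize psi φ (t + 1) = b at hr hr' ⊢
  generalize φ b = B at hr hr' ⊢
  field_simp at hr'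
  have : α * (t * a + (t + 1) * b + 1) * (A + a) = 0 := by
    linear_combination (norm := (ring_nf; simp [CharTwo.two_eq_zero, four_eq_zero])) a * hr + hr'
  rcases mul_eq_zero.1 this with h | h
  · exact Or.inl ((mul_eq_zero.1 h).resolve_left hα)
  · exact Or.inr (CharTwo.add_eq_zero.1 h)

/-- The cocycle parameter is zero or one. -/
theorem param (hne : ∃ t : F, t ≠ 0 ∧ t ≠ 1) : α = 0 ∨ α = 1 := by
  by_contra h
  push Not at h
  obtain ⟨hα0, hα1⟩ := h
  have hβ : α + 1 ≠ 0 := fun e => hα1 (CharTwo.add_eq_zero.1 e)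
  obtain ⟨t, h0, h1⟩ := hne
  have hu0 : t + 1 ≠ 0 := fun h => h1 (CharTwo.add_eq_zero.1 h)
  have hu1 : t + 1 ≠ 1 := fun h => h0 (by linear_combination h)
  have htt : t + 1 + 1 = t := by rw [add_assoc, CharTwo.add_self_eq_zero, add_zero]
  have hr := rel E h0 h1
  have haA := psi_mul_phi E.inj t
  have hbB := psi_mul_phi E.inj (t + 1)
  have d1 : t * psi φ t + (t + 1) * psi φ (t + 1) + 1 = 0 := by
    rcases defect E hα0 h0 h1 with d | hA
    · exact d
    rcases defect E hα0 hu0 hu1 with d | hB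
    · rw [htt] at d; linear_combination d
    rw [hA, hB] at hr
    linear_combination (norm := (ring_nf; simp [CharTwo.two_eq_zero, four_eq_zero])) hr
  have d2 : t * φ (psi φ t) + (t + 1) * φ (psi φ (t + 1)) + 1 = 0 := by
    refine (mul_eq_zero.1 (?_ : (α + 1) * _ = 0)).resolve_left hβ
    linear_combination (norm := (ring_nf; simp [CharTwo.two_eq_zero, four_eq_zero])) hr + α * d1
  have key : t * (1 + psi φ t) * (1 + φ (psi φ t)) = 0 := by
    generalize psi φ t = a at haA d1 d2 ⊢
    generalize φ a = A at haA d2 ⊢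
    generalize psi φ (t + 1) = b at hbB d1 d2
    generalize φ b = B at hbB d2
    linear_combination (norm := (ring_nf; simp [CharTwo.two_eq_zero, four_eq_zero]))
      (t + 1) * B * d1 + (t * a + 1) * d2 + (t ^ 2 + 2 * t + 1) * hbB + (t ^ 2 + t) * haA
  rcases mul_eq_zero.1 key with h | h
  · exact add_one_ne_zero (psi_ne_one E.inj h1) ((mul_eq_zero.1 h).resolve_left h0)
  · refine add_one_ne_zero (fun e => ?_) h
    exact psi_ne_one E.inj h1 (φ.injective (e.trans (map_one φ).symm))

/-- With parameter one the twist squares to squaring. -/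
theorem phi_sq (hα : α = 1) (x : F) : φ (φ x) = x ^ 2 := by
  have hh : ∀ s, (s + 1) * psi φ (s + 1) = s * psi φ s + 1 := by
    intro s
    by_cases h0 : s = 0
    · simp [h0, psi_one E.inj]
    by_cases h1 : s = 1
    · simp [h1, psi_one E.inj, psi_zero E.inj, CharTwo.add_self_eq_zero]
    have hr := rel E h0 h1
    rw [hα] at hr
    linear_combination (norm := (ring_nf; simp [CharTwo.two_eq_zero, four_eq_zero])) hr
  have hm : ∀ s s', (s * s') * psi φ (s * s') = s * psi φ s * (s' * psi φ s') := fun s s' => by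
    rw [psi_mul E.inj]; ring
  have hadd : ∀ s s', (s + s') * psi φ (s + s') = s * psi φ s + s' * psi φ s' := by
    intro s s'
    by_cases h0 : s = 0
    · simp [h0]
    have e : s + s' = s * (s' / s + 1) := by field_simp; ring
    rw [e, hm, hh, mul_add, ← hm, mul_div_cancel₀ _ h0]
    ring
  have hN : ∀ a, a * psi φ a * (φ a * psi φ (φ a)) = a ^ 2 * φ a := fun a => by
    rw [← hm, show a * φ a = nm φ a from rfl, psi_nm E.inj]
    simp only [nm]; ring
  have hor : ∀ a, a * psi φ a = a ^ 2 ∨ a * psi φ a = φ a := by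
    intro a
    have e := hN (a + 1)
    rw [map_add, map_one, hadd a 1, hadd (φ a) 1, psi_one E.inj, one_mul] at e
    have e' := hN a
    have : (a * psi φ a + a ^ 2) * (a * psi φ a + φ a) = 0 := by
      generalize a * psi φ a = H at e e' ⊢
      generalize φ a * psi φ (φ a) = K at e e'
      linear_combination (norm := (ring_nf; simp [CharTwo.two_eq_zero, four_eq_zero])) H * e + (H + 1) * e'
    rcases mul_eq_zero.1 this with h | h
    · exact Or.inl (CharTwo.add_eq_zero.1 h)
    · exact Or.inr (CharTwo.add_eq_zero.1 h)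
  have hall : (∀ a, a * psi φ a = a ^ 2) ∨ ∀ a, a * psi φ a = φ a := by
    by_contra h
    push Not at h
    obtain ⟨⟨p, hp⟩, q, hq⟩ := h
    have hp' := (hor p).resolve_left hp
    have hq' := (hor q).resolve_right hq
    rcases hor (p + q) with e | e <;> rw [hadd] at e
    · refine hp ?_
      linear_combination (norm := (ring_nf; simp [CharTwo.two_eq_zero, four_eq_zero])) e + hq'
    · refine hq ?_
      rw [map_add] at e
      linear_combination (norm := (ring_nf; simp [CharTwo.two_eq_zero, four_eq_zero])) e + hp'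
  rcases hall with hsq | hφe
  · by_cases hx : x = 0
    · simp [hx]
    have h1 : psi φ x = x := mul_left_cancel₀ hx (by rw [hsq x]; ring)
    have h2 := nm_psi E.inj x
    rw [h1, nm] at h2
    have h3 : φ x = 1 := mul_left_cancel₀ hx (by rw [h2, mul_one])
    have h4 : x = 1 := φ.injective (h3.trans (map_one φ).symm)
    simp [h4]
  · by_cases hx : x = 0
    · simp [hx]
    have h := hφe (nm φ x)
    rw [psi_nm E.inj] at h
    simp only [nm, map_mul] at h
    have hA : φ x ≠ 0 := fun h' => hx (φ.injective (h'.trans (map_zero φ).symm))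
    exact mul_left_cancel₀ hA (by rw [← h]; ring)

end FunEq

end CfsgLib.Suzuki.Ident
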