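import Cfsg.Agent.Lib.Suzuki.Ident.Data

/-!
Equivariant cocycles with diagonal `x φ(x)`.
-/

set_option autoImplicit false
set_option linter.unusedSectionVars false

namespace CfsgLib.Suzuki.Ident

universe w

variable {F : Type w} [Field F] [CharP F 2]

/-- The carrier of an extension of `F` by `F`. -/
@[ext] structure Twist (F : Type w) where
  fst : F
  snd : F

/-- A symmetric cocycle with zero diagonal is a coboundary. -/
theorem exists_primitive (δ : F → F → F)
    (hcoc : ∀ x y z, δ x y + δ (x + y) z = δ x (y + z) + δ y z)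
    (hsymm : ∀ x y, δ x y = δ y x) (hdiag : ∀ x, δ x x = 0) (h0 : ∀ y, δ 0 y = 0) :
    ∃ s : F → F, ∀ x y, δ x y = s (x + y) + s x + s y := by
  classical
  letI : Add (Twist F) := ⟨fun p q => ⟨p.fst + q.fst, p.snd + q.snd + δ p.fst q.fst⟩⟩
  letI : Zero (Twist F) := ⟨⟨0, 0⟩⟩
  letI : Neg (Twist F) := ⟨fun p => p⟩
  have hadd : ∀ p q : Twist F, p + q = ⟨p.fst + q.fst, p.snd + q.snd + δ p.fst q.fst⟩ :=
    fun p q => rfl
  have hz : (0 : Twist F) = ⟨0, 0⟩ := rfl
  have hself : ∀ p : Twist F, p + p = 0 := fun p => by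
    rw [hadd, hz, hdiag, add_zero, CharTwo.add_self_eq_zero, CharTwo.add_self_eq_zero]
  letI : AddGroup (Twist F) := AddGroup.ofLeftAxioms
    (fun p q r => by
      simp only [hadd]
      refine Twist.ext (add_assoc _ _ _) ?_
      linear_combination hcoc p.fst q.fst r.fst)
    (fun p => by rw [hz, hadd]; simp [h0])
    (fun p => hself p)
  letI : AddCommGroup (Twist F) :=
    { (inferInstance : AddGroup (Twist F)) with
      add_comm := fun p q => by
        simp only [hadd]
        exact Twist.ext (add_comm _ _) (by simp only [hsymm p.fst q.fst]; ring) }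
  letI : Module (ZMod 2) (Twist F) :=
    AddCommGroup.zmodModule fun p => by rw [two_nsmul]; exact hself p
  letI : Algebra (ZMod 2) F := ZMod.algebra F 2
  let π : Twist F →+ F := AddMonoidHom.mk' (fun p => p.fst) fun p q => rfl
  obtain ⟨g, hg⟩ := (π.toZModLinearMap 2).exists_rightInverse_of_surjective
    (LinearMap.range_eq_top.2 fun x => ⟨⟨x, 0⟩, rfl⟩)
  have hfst : ∀ x, (g x).fst = x := fun x => LinearMap.congr_fun hg x
  refine ⟨fun x => (g x).snd, fun x y => ?_⟩
  have h : (g (x + y)).snd = (g x).snd + (g y).snd + δ (g x).fst (g y).fst :=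
    congrArg Twist.snd ((map_add g x y).trans (hadd _ _))
  rw [hfst, hfst] at h
  linear_combination (norm := (ring_nf; simp [CharTwo.two_eq_zero])) h

variable [Fintype F]

/-- An equivariant cocycle with diagonal `x φ(x)` is a member of the one parameter family. -/
theorem exists_param (φ : F ≃+* F) (c : F → F → F)
    (hcoc : ∀ x y z, c x y + c (x + y) z = c x (y + z) + c y z)
    (hpol : ∀ x y, c x y + c y x = x * φ y + y * φ x)
    (hdiag : ∀ x, c x x = nm φ x) (h0 : ∀ y, c 0 y = 0)
    (hsm : ∀ μ x y, μ ≠ 0 → c (μ * x) (μ * y) = nm φ μ * c x y) :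
    ∃ α : F, ∀ x y, c x y = cpar φ α x y := by
  classical
  obtain ⟨s, hs⟩ := exists_primitive (fun x y => c x y + φ x * y)
    (fun x y z => by
      beta_reduce
      rw [map_add]
      linear_combination hcoc x y z)
    (fun x y => by
      beta_reduce
      linear_combination (norm := (ring_nf; simp [CharTwo.two_eq_zero])) hpol x y)
    (fun x => by
      beta_reduce
      rw [hdiag, nm, mul_comm, CharTwo.add_self_eq_zero])
    (fun y => by beta_reduce; rw [h0, map_zero, zero_mul, add_zero])
  let s' : F → F := fun x => ∑ ν : Fˣ, (nm φ (ν : F))⁻¹ * s ((ν : F) * x)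
  have hodd : ((Fintype.card Fˣ : ℕ) : F) = 1 := by
    rw [Fintype.card_units, Nat.cast_sub Fintype.card_pos, Nat.cast_one, CharTwo.sub_eq_add,
      show (Fintype.card F : F) = 0 from FiniteField.cast_card_eq_zero F, zero_add]
  have hd : ∀ x y, c x y + φ x * y = s' (x + y) + s' x + s' y := by
    intro x y
    simp only [s', ← Finset.sum_add_distrib, ← mul_add]
    have h : ∀ ν : Fˣ, (nm φ (ν : F))⁻¹ *
        (s ((ν : F) * (x + y)) + s ((ν : F) * x) + s ((ν : F) * y)) = c x y + φ x * y := by
      intro ν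
      rw [mul_add (ν : F), ← hs, hsm _ _ _ ν.ne_zero, map_mul,
        inv_mul_eq_iff_eq_mul₀ (nm_ne_zero φ ν.ne_zero), nm]
      ring
    rw [Finset.sum_congr rfl fun ν _ => h ν, Finset.sum_const, Finset.card_univ, nsmul_eq_mul, hodd,
      one_mul]
  have heq : ∀ (μ : Fˣ) x, s' ((μ : F) * x) = nm φ (μ : F) * s' x := by
    intro μ x
    simp only [s', Finset.mul_sum]
    refine Fintype.sum_equiv (Equiv.mulRight μ) _ _ fun ν => ?_
    simp only [Equiv.coe_mulRight, Units.val_mul, nm_mul, mul_assoc]
    have h1 := nm_ne_zero φ μ.ne_zero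
    have h2 := nm_ne_zero φ ν.ne_zero
    field_simp
  have hz : s' 0 = 0 := by
    have h := hd 0 0
    rw [h0, map_zero, zero_mul, add_zero, CharTwo.add_self_eq_zero, zero_add] at h
    exact h.symm
  have hform : ∀ x, s' x = s' 1 * nm φ x := by
    intro x
    by_cases hx : x = 0
    · rw [hx, hz, nm_zero, mul_zero]
    · have h := heq (Units.mk0 x hx) 1
      rw [Units.val_mk0, mul_one] at h
      rw [h, mul_comm]
  refine ⟨1 + s' 1, fun x y => ?_⟩
  have h := hd x y
  rw [hform (x + y), hform x, hform y] at h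
  simp only [nm, cpar, map_add] at h ⊢
  linear_combination (norm := (ring_nf; simp [CharTwo.two_eq_zero])) h

end CfsgLib.Suzuki.Ident
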