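import Cfsg.Agent.Lib.Suzuki.Ident.Algebra

/-!
Coordinates for a Zassenhaus group with a Suzuki 2-group as kernel, and the involution in them.
-/

set_option autoImplicit false
set_option linter.unusedSectionVars false

namespace CfsgLib.Suzuki.Ident

universe u v w

variable {G : Type u} {Ω : Type v} [Group G] [MulAction G Ω] {F : Type w} [Field F]

/-- The cocycle of the kernel. -/
def cpar (φ : F ≃+* F) (α x x' : F) : F := α * φ x * x' + (α + 1) * x * φ x'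

@[simp] theorem cpar_zero_left (φ : F ≃+* F) (α x : F) : cpar φ α 0 x = 0 := by simp [cpar]

@[simp] theorem cpar_zero_right (φ : F ≃+* F) (α x : F) : cpar φ α x 0 = 0 := by simp [cpar]

/-- The coordinates. -/
structure Coords (G : Type u) (Ω : Type v) [Group G] [MulAction G Ω] {F : Type w} [Field F]
    (φ : F ≃+* F) (α : F) where
  a : Ω
  b : Ω
  el : F → F → G
  sc : Fˣ → G
  wt : G
  el_fix : ∀ x y, el x y • a = a
  sc_fix_a : ∀ μ, sc μ • a = a
  sc_fix_b : ∀ μ, sc μ • b = b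
  w_sq : wt * wt = 1
  w_a : wt • a = b
  bij : ∀ z : Ω, z ≠ a → ∃! p : F × F, el p.1 p.2 • b = z
  ab : a ≠ b
  el_mul : ∀ x y x' y', el x y * el x' y' = el (x + x') (y + y' + cpar φ α x x')
  sc_el : ∀ (μ : Fˣ) x y, sc μ * el x y * (sc μ)⁻¹ = el (μ * x) (nm φ (μ : F) * y)
  w_sc : ∀ μ, wt * sc μ * wt = (sc μ)⁻¹
  struct_eq : wt * el 0 1 * wt = el 1 0 * wt * el 1 1
  gen : ∀ S : Subgroup G, (∀ x y, el x y ∈ S) → (∀ μ, sc μ ∈ S) → wt ∈ S → ∀ g, g ∈ S
  faithful : ∀ g : G, (∀ z : Ω, g • z = z) → g = 1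
  inj : Function.Injective (nm φ)

namespace Coords

variable {φ : F ≃+* F} {α : F} (D : Coords G Ω φ α)

/-- The point with given coordinates. -/
def pt (x y : F) : Ω := D.el x y • D.b

theorem w_b : D.wt • D.b = D.a := by rw [← D.w_a, ← mul_smul, D.w_sq, one_smul]

theorem pt_ne (x y : F) : D.pt x y ≠ D.a := fun h =>
  D.ab ((smul_left_cancel (D.el x y) ((D.el_fix x y).trans h.symm)))

theorem pt_inj {x y x' y' : F} (h : D.pt x y = D.pt x' y') : x = x' ∧ y = y' := by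
  have := (D.bij _ (D.pt_ne x y)).unique (y₁ := (x, y)) (y₂ := (x', y')) rfl h.symm
  exact Prod.mk.inj this

theorem el_zero : D.el 0 0 = 1 := by
  have h := D.el_mul 0 0 0 0
  simp only [cpar_zero_left, add_zero] at h
  simpa using h

theorem pt_zero : D.pt 0 0 = D.b := by rw [pt, el_zero, one_smul]

theorem el_pt (x y x' y' : F) :
    D.el x y • D.pt x' y' = D.pt (x + x') (y + y' + cpar φ α x x') := by
  rw [pt, pt, ← mul_smul, D.el_mul]

theorem sc_pt (μ : Fˣ) (x y : F) : D.sc μ • D.pt x y = D.pt (μ * x) (nm φ (μ : F) * y) := by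
  rw [pt, pt, ← D.sc_el, mul_smul, mul_smul, inv_smul_eq_iff.2 (D.sc_fix_b μ).symm]

theorem sc_inv_pt (μ : Fˣ) (x y : F) :
    (D.sc μ)⁻¹ • D.pt x y = D.pt ((μ : F)⁻¹ * x) ((nm φ (μ : F))⁻¹ * y) := by
  rw [inv_smul_eq_iff, D.sc_pt, mul_inv_cancel_left₀ μ.ne_zero,
    mul_inv_cancel_left₀ (nm_ne_zero φ μ.ne_zero)]

theorem w_w (z : Ω) : D.wt • D.wt • z = z := by rw [← mul_smul, D.w_sq, one_smul]

theorem exists_w_pt {x y : F} (h : x ≠ 0 ∨ y ≠ 0) : ∃ p : F × F, D.wt • D.pt x y = D.pt p.1 p.2 := by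
  obtain ⟨p, hp, -⟩ := D.bij (D.wt • D.pt x y) fun e => by
    have := congrArg (D.wt • ·) e
    simp only [w_w, D.w_a, ← pt_zero] at this
    obtain ⟨h1, h2⟩ := D.pt_inj this
    tauto
  exact ⟨p, hp.symm⟩

open scoped Classical in
/-- The involution on the nonzero coordinates. -/
noncomputable def jmap (x y : F) : F × F :=
  if h : x ≠ 0 ∨ y ≠ 0 then (D.exists_w_pt h).choose else (0, 0)

theorem w_pt {x y : F} (h : x ≠ 0 ∨ y ≠ 0) : D.wt • D.pt x y = D.pt (D.jmap x y).1 (D.jmap x y).2 := by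
  rw [jmap, dif_pos h]
  exact (D.exists_w_pt h).choose_spec

/-- The first coordinate at `(1, t)`. -/
noncomputable def mT (t : F) : F := (D.jmap 1 t).1

/-- The second coordinate at `(1, t)`. -/
noncomputable def yT (t : F) : F := (D.jmap 1 t).2

theorem w_one (t : F) : D.wt • D.pt 1 t = D.pt (D.mT t) (D.yT t) := D.w_pt (Or.inl one_ne_zero)

theorem w_scaled (μ : Fˣ) (t : F) : D.wt • D.pt μ (nm φ (μ : F) * t) =
    D.pt ((μ : F)⁻¹ * D.mT t) ((nm φ (μ : F))⁻¹ * D.yT t) := by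
  have h : D.pt μ (nm φ (μ : F) * t) = D.sc μ • D.pt 1 t := by rw [D.sc_pt, mul_one]
  have hw : D.wt * D.sc μ = (D.sc μ)⁻¹ * D.wt := by
    rw [← D.w_sc, mul_assoc _ D.wt D.wt, D.w_sq, mul_one]
  rw [h, ← mul_smul, hw, mul_smul, D.w_one, D.sc_inv_pt]

variable [CharP F 2]

theorem cpar_self (x : F) : cpar φ α x x = nm φ x := by
  simp only [cpar, nm]
  linear_combination α * x * φ x * CharTwo.two_eq_zero (R := F)

theorem cpar_one_one : cpar φ α (1 : F) 1 = 1 := by rw [cpar_self, nm_one]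

theorem el_one_inv : (D.el 1 0)⁻¹ = D.el 1 1 := by
  refine inv_eq_of_mul_eq_one_right ?_
  rw [D.el_mul, cpar_one_one, zero_add, CharTwo.add_self_eq_zero, el_zero]

/-- The structure equation in its second form. -/
theorem w_r_w : D.wt * D.el 1 1 * D.wt = D.el 1 1 * D.wt * D.el 0 1 := by
  have h : D.wt * D.el 0 1 * D.wt * D.wt = D.el 1 0 * D.wt * D.el 1 1 * D.wt :=
    congrArg (· * D.wt) D.struct_eq
  rw [mul_assoc _ D.wt D.wt, D.w_sq, mul_one] at h
  calc D.wt * D.el 1 1 * D.wt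
      = (D.el 1 0)⁻¹ * (D.el 1 0 * D.wt * D.el 1 1 * D.wt) := by group
    _ = D.el 1 1 * D.wt * D.el 0 1 := by rw [← h, el_one_inv, mul_assoc]

theorem w_one_one : D.wt • D.pt 1 1 = D.pt 1 1 := by
  rw [pt, ← D.w_a, ← mul_smul, ← mul_smul, w_r_w, mul_smul, mul_smul, D.el_fix]

theorem w_zero_one : D.wt • D.pt 0 1 = D.pt 1 0 := by
  conv_lhs => rw [pt, ← D.w_a, ← mul_smul, ← mul_smul, D.struct_eq]
  rw [mul_smul, mul_smul, D.el_fix, D.w_a, pt]

theorem mT_zero : D.mT 0 = 0 := by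
  have h : D.wt • D.pt 1 0 = D.pt 0 1 := by rw [← D.w_zero_one, w_w]
  exact (D.pt_inj ((D.w_one 0).symm.trans h)).1

theorem yT_zero : D.yT 0 = 1 := by
  have h : D.wt • D.pt 1 0 = D.pt 0 1 := by rw [← D.w_zero_one, w_w]
  exact (D.pt_inj ((D.w_one 0).symm.trans h)).2

theorem mT_one : D.mT 1 = 1 := (D.pt_inj ((D.w_one 1).symm.trans D.w_one_one)).1

theorem yT_one : D.yT 1 = 1 := (D.pt_inj ((D.w_one 1).symm.trans D.w_one_one)).2

variable [Finite F]

theorem w_zero {t : F} (ht : t ≠ 0) : D.wt • D.pt 0 t = D.pt (psi φ t)⁻¹ 0 := by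
  obtain ⟨μ, hμ⟩ : ∃ μ : Fˣ, (μ : F) = psi φ t := ⟨Units.mk0 _ (psi_ne_zero D.inj ht), rfl⟩
  have h : D.pt 0 t = D.sc μ • D.pt 0 1 := by
    rw [D.sc_pt, mul_zero, mul_one, hμ, nm_psi D.inj]
  have hw : D.wt * D.sc μ = (D.sc μ)⁻¹ * D.wt := by
    rw [← D.w_sc, mul_assoc _ D.wt D.wt, D.w_sq, mul_one]
  rw [h, ← mul_smul, hw, mul_smul, D.w_zero_one, D.sc_inv_pt, hμ, mul_one, mul_zero]

/-- The first functional equation. -/
theorem step {t : F} (ht : t ≠ 0) :
    D.mT (t + 1) = 1 + psi φ t * D.mT t ∧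
      D.yT (t + 1) = 1 + t * D.yT t + cpar φ α 1 (psi φ t * D.mT t) := by
  have ha := psi_ne_zero D.inj ht
  obtain ⟨μ, hμ⟩ : ∃ μ : Fˣ, (μ : F) = (psi φ t)⁻¹ := ⟨Units.mk0 _ (inv_ne_zero ha), rfl⟩
  have hN : nm φ (μ : F) = t⁻¹ := by
    rw [hμ, ← psi_inv D.inj, nm_psi D.inj]
  have key : D.wt • D.pt 1 (t + 1) = D.el 1 1 • D.pt (psi φ t * D.mT t) (t * D.yT t) := by
    have e1 : D.pt 1 (t + 1) = D.el 1 1 • D.pt 0 t := by
      rw [D.el_pt, add_zero, cpar_zero_right, add_zero, add_comm]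
    have e2 : D.el 0 1 • D.pt (psi φ t)⁻¹ 0 = D.pt μ (nm φ (μ : F) * t) := by
      rw [D.el_pt, cpar_zero_left, zero_add, add_zero, add_zero, hN, inv_mul_cancel₀ ht, hμ]
    calc D.wt • D.pt 1 (t + 1) = (D.wt * D.el 1 1 * D.wt) • (D.wt • D.pt 0 t) := by
          rw [e1, mul_smul, mul_smul, w_w]
      _ = D.el 1 1 • D.wt • D.pt μ (nm φ (μ : F) * t) := by
          rw [D.w_zero ht, w_r_w, mul_smul, mul_smul, e2]
      _ = _ := by rw [D.w_scaled, hN, hμ, inv_inv, inv_inv]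
  rw [D.w_one, D.el_pt] at key
  exact D.pt_inj key

/-- The coordinates satisfy the functional equations. -/
theorem funEq : FunEq φ α D.mT := by
  refine ⟨D.inj, D.mT_zero, fun t ht => (D.step ht).1, fun t h0 h1 => ?_⟩
  have hu0 : t + 1 ≠ 0 := fun h => h1 (CharTwo.add_eq_zero.1 h)
  have ha := psi_ne_zero D.inj h0
  have hb := psi_ne_zero D.inj hu0
  have ha1 := add_one_ne_zero (psi_ne_one D.inj h1)
  have hinv : (1 : F) + (psi φ t)⁻¹ ≠ 0 := add_one_ne_zero fun h => psi_ne_one D.inj h1 (inv_eq_one.1 h)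
  obtain ⟨μ, hμ⟩ : ∃ μ : Fˣ, (μ : F) = 1 + (psi φ t)⁻¹ := ⟨Units.mk0 _ hinv, rfl⟩
  have key : D.el 1 0 • D.wt • D.el 1 1 • D.pt (psi φ t)⁻¹ 0 = D.pt (psi φ (t + 1))⁻¹ 0 := by
    rw [← mul_smul, ← mul_smul, ← D.struct_eq, mul_smul, mul_smul, ← D.w_zero h0,
      w_w, D.el_pt, cpar_zero_left, zero_add, add_zero, add_comm 1 t, D.w_zero hu0]
  rw [← eq_inv_smul_iff, el_one_inv, D.el_pt, D.el_pt, add_zero] at key
  have harg : nm φ (μ : F) * argA φ α t = 1 + cpar φ α 1 (psi φ t)⁻¹ := by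
    have hA : φ (psi φ t) ≠ 0 := fun h => ha (φ.injective (h.trans (map_zero φ).symm))
    have hd := nm_ne_zero φ ha1
    have haA := psi_mul_phi D.inj t
    simp only [argA, cpar, hμ, nm, map_add, map_one, map_inv₀] at hd ⊢
    generalize psi φ t = a at ha ha1 hd haA hA ⊢
    generalize φ a = A at hd haA hA ⊢
    subst haA
    obtain ⟨hd1, hd2⟩ := mul_ne_zero_iff.1 hd
    field_simp
    ring
  rw [← hμ, ← harg, D.w_scaled] at key
  have h := (D.pt_inj key).1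
  rw [inv_mul_eq_iff_eq_mul₀ μ.ne_zero] at h
  rw [h, hμ]
  field_simp
  ring

omit [Finite F] in
/-- Exchange the two extreme parameters. -/
def flip (D : Coords G Ω φ (0 : F)) : Coords G Ω φ.symm (1 : F) where
  a := D.a
  b := D.b
  el x y := D.el (φ.symm x) y
  sc μ := D.sc (Units.map (φ.symm : F →* F) μ)
  wt := D.wt
  el_fix x y := D.el_fix _ _
  sc_fix_a μ := D.sc_fix_a _
  sc_fix_b μ := D.sc_fix_b _
  w_sq := D.w_sq
  w_a := D.w_a
  bij z hz := by
    obtain ⟨p, hp, hu⟩ := D.bij z hz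
    refine ⟨(φ p.1, p.2), by simpa using hp, fun q hq => ?_⟩
    have := hu (φ.symm q.1, q.2) hq
    rw [← this]
    simp
  ab := D.ab
  el_mul x y x' y' := by
    rw [D.el_mul, map_add]
    congr 1
    simp only [cpar, φ.apply_symm_apply, one_mul, zero_mul, zero_add, CharTwo.add_self_eq_zero,
      zero_mul, add_zero]
  sc_el μ x y := by
    rw [D.sc_el]
    simp only [Units.coe_map, MonoidHom.coe_coe, map_mul, nm, φ.apply_symm_apply]
    rw [mul_comm (μ : F) (φ.symm (μ : F))]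
  w_sc μ := D.w_sc _
  struct_eq := by simpa using D.struct_eq
  gen S h1 h2 h3 := D.gen S
    (fun x y => by simpa using h1 (φ x) y)
    (fun μ => by
      have := h2 (Units.map (φ : F →* F) μ)
      rwa [show Units.map (φ.symm : F →* F) (Units.map (φ : F →* F) μ) = μ from
        Units.ext (φ.symm_apply_apply _)] at this) h3
  faithful := D.faithful
  inj x y h := φ.symm.injective (D.inj (by
    simp only [nm, φ.apply_symm_apply] at h ⊢
    rw [mul_comm, h, mul_comm]))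

end Coords

end CfsgLib.Suzuki.Ident
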