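import Cfsg.Agent.Lib.Suzuki.Ident.Cocycle

/-!
A Suzuki 2-group with its cyclic group of automorphisms in coordinates.
-/

set_option autoImplicit false
set_option linter.unusedSectionVars false

namespace CfsgLib.Suzuki.Ident

universe u k w

/-- The projection, the central subgroup and the equivariance. -/
structure Frame (P : Type u) [Group P] {K : Type k} [Group K] (ρ : K →* MulAut P) (F : Type w)
    [Field F] (φ : F ≃+* F) where
  proj : P → F
  ι : F → P
  χ : K ≃* Fˣ
  proj_mul : ∀ p q, proj (p * q) = proj p + proj q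
  ker : ∀ p, proj p = 0 ↔ ∃ y, p = ι y
  ι_add : ∀ x y, ι (x + y) = ι x * ι y
  ι_inj : Function.Injective ι
  ι_central : ∀ y p, ι y * p = p * ι y
  sq : ∀ p, p * p = ι (nm φ (proj p))
  proj_act : ∀ l p, proj (ρ l p) = (χ l : F) * proj p
  ι_act : ∀ l y, ρ l (ι y) = ι (nm φ (χ l : F) * y)

namespace Frame

variable {P : Type u} [Group P] {K : Type k} [Group K] {ρ : K →* MulAut P} {F : Type w}
  [Field F] [Fintype F] [CharP F 2] {φ : F ≃+* F}

/-- The kernel in coordinates. -/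
theorem exists_el (T : Frame P ρ F φ) {e₀ : P} (he₀ : T.proj e₀ = 1) :
    ∃ (α : F) (el : F → F → P),
      (∀ x y x' y', el x y * el x' y' = el (x + x') (y + y' + cpar φ α x x')) ∧
      (∀ l x y, ρ l (el x y) = el ((T.χ l : F) * x) (nm φ (T.χ l : F) * y)) ∧
      (∀ p, ∃! q : F × F, el q.1 q.2 = p) ∧ el 1 0 = e₀ ∧ ∀ y, el 0 y = T.ι y := by
  classical
  have hι0 : T.ι 0 = 1 := by simpa using T.ι_add 0 0
  have hp1 : T.proj 1 = 0 := by simpa using T.proj_mul 1 1
  have hpinv : ∀ p, T.proj p⁻¹ = T.proj p := fun p => by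
    have h := T.proj_mul p⁻¹ p
    rw [inv_mul_cancel, hp1] at h
    exact CharTwo.add_eq_zero.1 h.symm
  let σ : F → P := fun x => if h : x = 0 then 1 else ρ (T.χ.symm (Units.mk0 x h)) e₀
  have hσ0 : σ 0 = 1 := dif_pos rfl
  have hσ1 : σ 1 = e₀ := by
    simp only [σ, dif_neg one_ne_zero, Units.mk0_one, map_one]
    rfl
  have hπσ : ∀ x, T.proj (σ x) = x := by
    intro x
    by_cases hx : x = 0
    · rw [hx, hσ0, hp1]
    · simp only [σ, dif_neg hx, T.proj_act, MulEquiv.apply_symm_apply, Units.val_mk0, he₀, mul_one]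
  have hσK : ∀ (l : K) x, ρ l (σ x) = σ ((T.χ l : F) * x) := by
    intro l x
    by_cases hx : x = 0
    · rw [hx, mul_zero, hσ0, map_one]
    · have hne : (T.χ l : F) * x ≠ 0 := mul_ne_zero (T.χ l).ne_zero hx
      simp only [σ, dif_neg hx, dif_neg hne]
      have : Units.mk0 ((T.χ l : F) * x) hne = T.χ l * Units.mk0 x hx := Units.ext rfl
      rw [this, map_mul, T.χ.symm_apply_apply, map_mul, MulAut.mul_apply]
  have hex : ∀ x y, ∃ c, σ x * σ y = σ (x + y) * T.ι c := by
    intro x y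
    obtain ⟨c, hc⟩ := (T.ker ((σ (x + y))⁻¹ * (σ x * σ y))).1 (by
      rw [T.proj_mul, T.proj_mul, hpinv, hπσ, hπσ, hπσ, CharTwo.add_self_eq_zero])
    exact ⟨c, by rw [← hc, mul_inv_cancel_left]⟩
  choose c hc using hex
  have hcan : ∀ {x a b}, σ x * T.ι a = σ x * T.ι b → a = b := fun h =>
    T.ι_inj (mul_left_cancel h)
  have hcoc : ∀ x y z, c x y + c (x + y) z = c x (y + z) + c y z := by
    intro x y z
    refine hcan (x := x + y + z) ?_
    calc σ (x + y + z) * T.ι (c x y + c (x + y) z)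
        = σ (x + y + z) * T.ι (c (x + y) z) * T.ι (c x y) := by
          rw [add_comm (c x y), T.ι_add, mul_assoc]
      _ = σ (x + y) * σ z * T.ι (c x y) := by rw [hc]
      _ = σ (x + y) * T.ι (c x y) * σ z := by rw [mul_assoc, ← T.ι_central, mul_assoc]
      _ = σ x * (σ y * σ z) := by rw [← hc, mul_assoc]
      _ = σ (x + (y + z)) * T.ι (c x (y + z)) * T.ι (c y z) := by rw [hc y z, ← mul_assoc, hc]
      _ = _ := by rw [T.ι_add, mul_assoc, ← add_assoc]
  have hdiag : ∀ x, c x x = nm φ x := by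
    intro x
    have h := hc x x
    rw [T.sq, hπσ, CharTwo.add_self_eq_zero, hσ0, one_mul] at h
    exact (T.ι_inj h).symm
  have hc0 : ∀ y, c 0 y = 0 := by
    intro y
    have h := hc 0 y
    rw [hσ0, one_mul, zero_add] at h
    exact T.ι_inj (by rw [hι0]; exact left_eq_mul.1 h)
  have hpol : ∀ x y, c x y + c y x = x * φ y + y * φ x := by
    intro x y
    have h1 : σ y * σ x = σ x * σ y * T.ι (c x y + c y x) := by
      rw [hc x y, hc y x, add_comm y x, mul_assoc, ← T.ι_add, ← add_assoc, CharTwo.add_self_eq_zero,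
        zero_add]
    have h2 : σ x * σ y * (σ x * σ y) =
        T.ι (nm φ x + (nm φ y + (c x y + c y x))) := by
      calc σ x * σ y * (σ x * σ y) = σ x * (σ y * σ x) * σ y := by simp only [mul_assoc]
        _ = σ x * (σ x * σ y) * (T.ι (c x y + c y x) * σ y) := by rw [h1]; simp only [mul_assoc]
        _ = (σ x * σ x) * ((σ y * σ y) * T.ι (c x y + c y x)) := by
            rw [T.ι_central]; simp only [mul_assoc]
        _ = _ := by rw [T.sq, T.sq, hπσ, hπσ, ← T.ι_add, ← T.ι_add]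
    rw [T.sq, T.proj_mul, hπσ, hπσ] at h2
    have h3 := T.ι_inj h2
    simp only [nm, map_add] at h3
    linear_combination (norm := (ring_nf; simp [CharTwo.two_eq_zero])) h3
  have hsm : ∀ μ x y, μ ≠ 0 → c (μ * x) (μ * y) = nm φ μ * c x y := by
    intro μ x y hμ
    obtain ⟨l, hl⟩ := T.χ.surjective (Units.mk0 μ hμ)
    have h := congrArg (ρ l) (hc x y)
    rw [map_mul, map_mul, hσK, hσK, hσK, T.ι_act, hl, Units.val_mk0, hc, mul_add] at h
    exact hcan h
  obtain ⟨α, hα⟩ := exists_param φ c hcoc hpol hdiag hc0 hsm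
  refine ⟨α, fun x y => σ x * T.ι y, fun x y x' y' => ?_, fun l x y => ?_, fun p => ?_, ?_, ?_⟩
  · calc σ x * T.ι y * (σ x' * T.ι y') = σ x * σ x' * (T.ι y * T.ι y') := by
          rw [mul_assoc, ← mul_assoc (T.ι y), T.ι_central, ← mul_assoc, ← mul_assoc, ← mul_assoc]
      _ = _ := by rw [hc, hα, ← T.ι_add, mul_assoc, ← T.ι_add, add_comm (cpar φ α x x')]
  · rw [map_mul, hσK, T.ι_act]
  · obtain ⟨y, hy⟩ := (T.ker ((σ (T.proj p))⁻¹ * p)).1 (by
      rw [T.proj_mul, hpinv, hπσ, CharTwo.add_self_eq_zero])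
    refine ⟨(T.proj p, y), ?_, fun q hq => ?_⟩
    · show σ (T.proj p) * T.ι y = p
      rw [← hy, mul_inv_cancel_left]
    · have hq' : σ q.1 * T.ι q.2 = p := hq
      have h1 : q.1 = T.proj p := by
        rw [← hq', T.proj_mul, hπσ, (T.ker (T.ι q.2)).2 ⟨_, rfl⟩, add_zero]
      refine Prod.ext h1 (hcan (x := T.proj p) ?_)
      rw [← h1, hq', h1, ← hy, mul_inv_cancel_left]
  · show σ 1 * T.ι 0 = e₀
    rw [hσ1, hι0, mul_one]
  · intro y
    show σ 0 * T.ι y = _
    rw [hσ0, one_mul]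

end Frame

end CfsgLib.Suzuki.Ident
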