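import Cfsg.Agent.Lib.Chev.RankOneEq
import Cfsg.Agent.Lib.Chev.ZassSuzuki

/-!
The distinguished element of the kernel given by the structure equation.
-/

set_option autoImplicit false
set_option linter.unusedSectionVars false

namespace CfsgLib.Suzuki.Ident

open MulAction CfsgLib.Clifford

universe u v

variable {G : Type u} {Ω : Type v} [Group G] [Finite G] [MulAction G Ω] [Fintype Ω]
  {a b : Ω} {H : Subgroup G} (C : Zass G Ω a b H)

local notation "𝐄" => (stabilizer G a ⊓ stabilizer G b : Subgroup G)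

include C

theorem card_parameters (hP : IsPGroup 2 H) (hna : ∃ u v : H, u * v ≠ v * u) (hcyc : IsCyclic 𝐄) :
    ∃ n, Odd n ∧ 1 < n ∧ Nat.card 𝐄 = 2 ^ n - 1 ∧ Nat.card H = (2 ^ n) ^ 2 ∧
      ¬ 3 ∣ Nat.card G := by
  obtain ⟨n, hn, hn1, he, hh, -⟩ := C.suzuki_parameters hP hna hcyc
  refine ⟨n, hn, hn1, he, hh, ?_⟩
  rw [C.card_G, he, hh]
  obtain ⟨k, rfl⟩ := hn
  have hp : 1 ≤ 2 ^ (2 * k + 1) := Nat.one_le_two_pow
  have h4 : 4 ^ k % 3 = 1 := by rw [Nat.pow_mod]; norm_num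
  have hq : 2 ^ (2 * k + 1) % 3 = 2 := by
    rw [pow_succ, pow_mul, show (2 : ℕ) ^ 2 = 4 by norm_num, Nat.mul_mod, h4]
  generalize 2 ^ (2 * k + 1) = q at hp hq
  intro h
  rw [Nat.dvd_iff_mod_eq_zero, Nat.mul_mod, show (q - 1) % 3 = 1 by omega, Nat.mul_mod (q ^ 2 + 1),
    Nat.add_mod, Nat.pow_mod, hq] at h
  norm_num at h

theorem rankOneSetup (hP : IsPGroup 2 H) (hna : ∃ u v : H, u * v ≠ v * u) {w : G} (ha : w • a = b)
    (hb : w • b = a) : Cfsg.IsRankOneSetup G Ω a w H := by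
  have hev : Even (Nat.card H) := by
    obtain ⟨k, hk⟩ := hP.exists_card_eq
    rw [hk, Nat.even_pow]
    refine ⟨even_two, fun h => ?_⟩
    rw [h, pow_zero] at hk
    obtain ⟨u, v, huv⟩ := hna
    haveI := (Nat.card_eq_one_iff_unique.1 hk).1
    exact huv (Subsingleton.elim _ _)
  refine ⟨C.two, C.swap_sq ha hb, fun e => C.ab (by rw [← ha, e, one_smul]),
    fun h => C.ab ((mem_stabilizer_iff.1 h).symm.trans ha), fun x hx => C.fix x hx,
    fun h hh x hx => C.normal h hh x hx, ?_, ?_, hev, ha.symm ▸ C.odd⟩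
  · rw [Subgroup.eq_bot_iff_forall]
    rintro x ⟨hx, hxb⟩
    rw [ha] at hxb
    exact C.free x hx b C.ab.symm hxb
  · refine le_antisymm (sup_le (fun x hx => C.fix x hx) inf_le_left) fun g hg => ?_
    obtain ⟨u, hu, k, hk, rfl⟩ := C.exists_decomp hg
    rw [ha]
    exact Subgroup.mul_mem_sup hu hk

/-- The structure equation with `r * r` the distinguished involution. -/
theorem exists_root (hP : IsPGroup 2 H) (hna : ∃ u v : H, u * v ≠ v * u) (hcyc : IsCyclic 𝐄) :
    ∃ w r : G, w • a = b ∧ w • b = a ∧ w * w = 1 ∧ r ∈ H ∧ r * r ≠ 1 ∧ (r * r) * (r * r) = 1 ∧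
      w * (r * r) * w = r⁻¹ * w * r := by
  obtain ⟨w, hwa, hwb⟩ := C.exists_swap
  have hww := C.swap_sq hwa hwb
  have hS := rankOneSetup C hP hna hwa hwb
  obtain ⟨⟨z, r⟩, ⟨⟨hza, hz1, hzz⟩, hrH, he⟩, -⟩ := CfsgLib.Chev.RankOne.structure_equation hS
  have hzH : z ∈ H := C.involution_mem hzz hza
  have h4 : r ^ 4 = 1 := by
    have h := Monoid.pow_exponent_eq_one (⟨r, hrH⟩ : H)
    rw [(C.suzukiCtx hP hna hcyc).exponent_four] at h
    exact congrArg Subtype.val h
  obtain ⟨n, -, -, -, -, h3⟩ := card_parameters C hP hna hcyc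
  have hcz : z * r = r * z := C.involution_central hzz hzH hrH
  have hconj : r⁻¹ * (w * z) * r = (w * z) ^ 2 := by
    rw [pow_two, show r⁻¹ * (w * z) * r = r⁻¹ * w * (z * r) by group, hcz, ← mul_assoc]
    have he' : r⁻¹ * w * r = w * z * w := he.symm
    rw [he', mul_assoc]
  have hpow : ∀ j : ℕ, r⁻¹ * (w * z) ^ j * r = (w * z) ^ (2 * j) := fun j => by
    rw [pow_mul, ← hconj]
    simpa using (conj_pow (a := r⁻¹) (b := w * z) (i := j)).symm
  have hc2 : r⁻¹ * r⁻¹ * (w * z) * (r * r) = (w * z) ^ 4 := by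
    rw [show r⁻¹ * r⁻¹ * (w * z) * (r * r) = r⁻¹ * (r⁻¹ * (w * z) * r) * r by group, hconj, hpow]
  have h16 : (w * z) ^ 16 = w * z := by
    calc (w * z) ^ 16 = r⁻¹ * (r⁻¹ * (r⁻¹ * (r⁻¹ * (w * z) * r) * r) * r) * r := by
          rw [hconj, hpow, hpow, hpow]
      _ = (r⁻¹) ^ 4 * (w * z) * r ^ 4 := by simp [pow_succ, mul_assoc]
      _ = w * z := by rw [inv_pow, h4, inv_one, one_mul, mul_one]
  have h15 : (w * z) ^ 15 = 1 := by
    rw [pow_succ] at h16
    exact mul_eq_right.1 h16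
  have h5 : (w * z) ^ 5 = 1 := by
    have h53 : ((w * z) ^ 5) ^ 3 = 1 := by rw [← pow_mul]; exact h15
    refine orderOf_eq_one_iff.1 (((Nat.dvd_prime Nat.prime_three).1
      (orderOf_dvd_of_pow_eq_one h53)).resolve_right fun e => h3 (e ▸ orderOf_dvd_natCard _))
  have hzw : z * w = (w * z) ^ 4 := by
    have e : (w * z) ^ 4 = (w * z)⁻¹ := eq_inv_of_mul_eq_one_left (by rw [← pow_succ]; exact h5)
    rw [e, mul_inv_rev, inv_eq_of_mul_eq_one_right hzz, inv_eq_of_mul_eq_one_right hww]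
  have hrr : r * r = z := by
    have hu : r * r * z = 1 := by
      by_contra hu1
      have hcomm : (r * r * z) * (w * z) = (w * z) * (r * r * z) := by
        have e1 : (w * z) * (r * r) = r * r * (z * w) := by
          rw [hzw, ← hc2]
          group
        calc r * r * z * (w * z) = r * r * (z * w) * z := by simp only [mul_assoc]
          _ = _ := by rw [← e1]; simp only [mul_assoc]
      have hmem : r * r * z ∈ H := mul_mem (mul_mem hrH hrH) hzH
      have hfix : (r * r * z) • ((w * z) • a) = (w * z) • a := by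
        rw [← mul_smul, hcomm, mul_smul, C.fix _ hmem]
      have := C.fix_only hmem hu1 hfix
      rw [mul_smul, C.fix z hzH, hwa] at this
      exact C.ab this.symm
    rw [eq_inv_of_mul_eq_one_left hu, inv_eq_of_mul_eq_one_right hzz]
  exact ⟨w, r, hwa, hwb, hww, hrH, by rw [hrr]; exact hz1, by rw [hrr]; exact hzz,
    by rw [hrr]; exact he⟩

end CfsgLib.Suzuki.Ident
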