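import Cfsg.Agent.Lib.Suzuki.Ident.Data

/-!
Two groups with the same coordinate parameters are isomorphic.
-/

set_option autoImplicit false
set_option linter.unusedSectionVars false

namespace CfsgLib.Suzuki.Ident

universe u v w u' v'

variable {F : Type w} [Field F] [Finite F] [CharP F 2] {φ : F ≃+* F}

/-- No primitive cube root of unity. -/
theorem quad_ne (hφ : ∀ x, φ (φ x) = x ^ 2) (t : F) : t * (t + 1) ≠ 1 := by
  intro h
  have h' : t ^ 2 = t + 1 := by
    linear_combination h + (-t + 0) * CharTwo.two_eq_zero (R := F)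
  have hs : φ t ^ 2 = φ t + 1 := by rw [← map_pow, h', map_add, map_one]
  have hc : φ t = t ∨ φ t = t + 1 := by
    have : (φ t + t) * (φ t + t + 1) = 0 := by
      linear_combination hs + h' + (φ t * t + φ t + t + 1) * CharTwo.two_eq_zero (R := F)
    rcases mul_eq_zero.1 this with e | e
    · exact Or.inl (CharTwo.add_eq_zero.1 e)
    · exact Or.inr (CharTwo.add_eq_zero.1 (by rw [← add_assoc]; exact e))
  have ht : φ (φ t) = t := by
    rcases hc with e | e
    · rw [e, e]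
    · rw [e, map_add, e, map_one, add_assoc, CharTwo.add_self_eq_zero, add_zero]
  rw [hφ, h'] at ht
  exact one_ne_zero (add_eq_left.1 ht)

namespace Coords

variable {G : Type u} {Ω : Type v} [Group G] [MulAction G Ω] (D : Coords G Ω φ (1 : F))

theorem solve (hφ : ∀ x, φ (φ x) = x ^ 2) {t : F} (h0 : t ≠ 0) (h1 : t ≠ 1) :
    D.mT t = (1 + psi φ (t + 1)) / (1 + psi φ t * psi φ (t + 1)) ∧
    D.yT t = (1 + (t + 1) + (t + 1) * cpar φ 1 1 (psi φ t * D.mT t) +
      cpar φ 1 1 (psi φ (t + 1) * (1 + psi φ t * D.mT t))) / (1 + t * (t + 1)) := by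
  have hu0 : t + 1 ≠ 0 := fun h => h1 (CharTwo.add_eq_zero.1 h)
  obtain ⟨a1, a2⟩ := D.step h0
  obtain ⟨b1, b2⟩ := D.step hu0
  rw [add_assoc, CharTwo.add_self_eq_zero, add_zero, a1] at b1
  rw [add_assoc, CharTwo.add_self_eq_zero, add_zero, a1, a2] at b2
  have d1 : 1 + psi φ t * psi φ (t + 1) ≠ 0 := add_one_ne_zero fun h => quad_ne hφ t (by
    rw [← psi_mul D.inj] at h
    rw [← nm_psi D.inj (t * (t + 1)), h, nm_one])
  have d2 : 1 + t * (t + 1) ≠ 0 := add_one_ne_zero (quad_ne hφ t)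
  refine ⟨(eq_div_iff d1).2 ?_, (eq_div_iff d2).2 ?_⟩
  · linear_combination (norm := (ring_nf; simp [CharTwo.two_eq_zero])) b1
  · linear_combination (norm := (ring_nf; simp [CharTwo.two_eq_zero])) b2

variable {G' : Type u'} {Ω' : Type v'} [Group G'] [MulAction G' Ω'] (D' : Coords G' Ω' φ (1 : F))

theorem mT_eq (hφ : ∀ x, φ (φ x) = x ^ 2) (t : F) : D.mT t = D'.mT t ∧ D.yT t = D'.yT t := by
  by_cases h0 : t = 0
  · subst h0; exact ⟨by rw [D.mT_zero, D'.mT_zero], by rw [D.yT_zero, D'.yT_zero]⟩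
  by_cases h1 : t = 1
  · subst h1; exact ⟨by rw [D.mT_one, D'.mT_one], by rw [D.yT_one, D'.yT_one]⟩
  obtain ⟨a1, a2⟩ := D.solve hφ h0 h1
  obtain ⟨b1, b2⟩ := D'.solve hφ h0 h1
  refine ⟨a1.trans b1.symm, ?_⟩
  rw [a2, b2, a1, b1]

theorem w_same (hφ : ∀ x, φ (φ x) = x ^ 2) {x y : F} (h : x ≠ 0 ∨ y ≠ 0) :
    ∃ x' y' : F, D.wt • D.pt x y = D.pt x' y' ∧ D'.wt • D'.pt x y = D'.pt x' y' := by
  by_cases hx : x = 0
  · subst hx
    have hy : y ≠ 0 := h.resolve_left (fun h' => h' rfl)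
    exact ⟨_, _, D.w_zero hy, D'.w_zero hy⟩
  obtain ⟨μ, rfl⟩ : ∃ μ : Fˣ, (μ : F) = x := ⟨Units.mk0 x hx, rfl⟩
  obtain ⟨t, rfl⟩ : ∃ t, y = nm φ (μ : F) * t :=
    ⟨(nm φ (μ : F))⁻¹ * y, by rw [mul_inv_cancel_left₀ (nm_ne_zero φ μ.ne_zero)]⟩
  obtain ⟨e1, e2⟩ := mT_eq D D' hφ t
  exact ⟨_, _, D.w_scaled μ t, by rw [D'.w_scaled, e1, e2]⟩

/-- A label of a point. -/
def lab : Option (F × F) → Ω
  | none => D.a
  | some p => D.pt p.1 p.2

theorem lab_bijective : Function.Bijective D.lab := by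
  refine ⟨?_, fun z => ?_⟩
  · rintro (_ | ⟨x, y⟩) (_ | ⟨x', y'⟩) h
    · rfl
    · exact absurd h.symm (D.pt_ne x' y')
    · exact absurd h (D.pt_ne x y)
    · obtain ⟨rfl, rfl⟩ := D.pt_inj h
      rfl
  · by_cases hz : z = D.a
    · exact ⟨none, hz.symm⟩
    · obtain ⟨p, hp, -⟩ := D.bij z hz
      exact ⟨some p, hp⟩

/-- The points as coordinates. -/
noncomputable def labEquiv : Option (F × F) ≃ Ω := Equiv.ofBijective D.lab D.lab_bijective

/-- The action on the coordinates. -/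
noncomputable def perm : G →* Equiv.Perm (Option (F × F)) :=
  D.labEquiv.symm.permCongrHom.toMonoidHom.comp (MulAction.toPermHom G Ω)

theorem lab_perm (g : G) (o : Option (F × F)) : D.lab (D.perm g o) = g • D.lab o :=
  D.labEquiv.apply_symm_apply _

theorem perm_injective : Function.Injective D.perm := by
  rw [injective_iff_map_eq_one]
  intro g hg
  refine D.faithful g fun z => ?_
  obtain ⟨o, rfl⟩ := D.lab_bijective.2 z
  rw [← lab_perm, hg]
  rfl

theorem perm_eq_of {g : G} {g' : G'}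
    (h : ∀ o, ∃ o', g • D.lab o = D.lab o' ∧ g' • D'.lab o = D'.lab o') : D.perm g = D'.perm g' := by
  refine Equiv.ext fun o => ?_
  obtain ⟨o', h1, h2⟩ := h o
  exact ((D.lab_bijective.1 ((D.lab_perm g o).trans h1))).trans
    (D'.lab_bijective.1 ((D'.lab_perm g' o).trans h2)).symm

theorem perm_el (x y : F) : D.perm (D.el x y) = D'.perm (D'.el x y) := by
  refine perm_eq_of D D' fun o => ?_
  rcases o with _ | ⟨x', y'⟩
  · exact ⟨none, D.el_fix x y, D'.el_fix x y⟩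
  · exact ⟨some (_, _), D.el_pt x y x' y', D'.el_pt x y x' y'⟩

theorem perm_sc (μ : Fˣ) : D.perm (D.sc μ) = D'.perm (D'.sc μ) := by
  refine perm_eq_of D D' fun o => ?_
  rcases o with _ | ⟨x', y'⟩
  · exact ⟨none, D.sc_fix_a μ, D'.sc_fix_a μ⟩
  · exact ⟨some (_, _), D.sc_pt μ x' y', D'.sc_pt μ x' y'⟩

theorem perm_wt (hφ : ∀ x, φ (φ x) = x ^ 2) : D.perm D.wt = D'.perm D'.wt := by
  refine perm_eq_of D D' fun o => ?_
  rcases o with _ | ⟨x', y'⟩
  · exact ⟨some (0, 0), D.w_a.trans D.pt_zero.symm, D'.w_a.trans D'.pt_zero.symm⟩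
  by_cases h : x' ≠ 0 ∨ y' ≠ 0
  · obtain ⟨x'', y'', h1, h2⟩ := w_same D D' hφ h
    exact ⟨some (x'', y''), h1, h2⟩
  · push Not at h
    obtain ⟨rfl, rfl⟩ := h
    exact ⟨none, by simp only [lab, pt_zero, D.w_b], by simp only [lab, pt_zero, D'.w_b]⟩

theorem range_le (hφ : ∀ x, φ (φ x) = x ^ 2) : D.perm.range ≤ D'.perm.range := by
  rintro _ ⟨g, rfl⟩
  refine D.gen (D'.perm.range.comap D.perm) (fun x y => ?_) (fun μ => ?_) ?_ g
  · exact ⟨_, (perm_el D D' x y).symm⟩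
  · exact ⟨_, (perm_sc D D' μ).symm⟩
  · exact ⟨_, (perm_wt D D' hφ).symm⟩

include D D' in
/-- The parameters determine the group. -/
theorem nonempty_iso (hφ : ∀ x, φ (φ x) = x ^ 2) : Nonempty (G ≃* G') :=
  ⟨((MonoidHom.ofInjective D.perm_injective).trans
    (MulEquiv.subgroupCongr (le_antisymm (range_le D D' hφ) (range_le D' D hφ)))).trans
    (MonoidHom.ofInjective D'.perm_injective).symm⟩

end Coords

end CfsgLib.Suzuki.Ident
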